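import Cfsg.Agent.Lib.OddOrder.PF10.Local
import Cfsg.Agent.Lib.OddOrder.Interface.PF11

/-!
# Peterfalvi §10: what the counting argument of (10.8) uses of coherence

`Key M W₁ W₂ ζ χ`: `ζ` is an irreducible member of `S(1)` of degree `|W₁|`, `χ` is a signed
irreducible character of `G` orthogonal to the cyclic TI family, and `τ` carries the inner products
with `ζ` of the basic combinations vanishing at `1` to those with `χ`.

`Coherent ⇒ Key` is in `PF10/Bridge.lean`, `Key ⇒ False` in `PF10/Noncoherent.lean`.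
-/

set_option autoImplicit false

namespace Cfsg.Agent.Lib.OddOrder.PF10

open scoped Classical
open Cfsg.Agent.Lib.OddOrder.Interface.PF11 (derivedIn tau)

universe u

variable {G : Type u} [Group G] [Fintype G]

/-- The input of the counting argument. -/
structure Key (M W₁ W₂ : Subgroup G) [Fintype ↥M] (ζ : ↥M → ℂ) (χ : G → ℂ) : Prop where
  zeta_irr : Cfsg.IsIrrCharacter ↥M ζ
  zeta_mem : ζ ∈ Cfsg.inducedIrrAbove (derivedIn M) ⊥
  zeta_one : ζ 1 = (Nat.card W₁ : ℂ)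
  signed : Cfsg.IsIrrCharacter G χ ∨ Cfsg.IsIrrCharacter G (-χ)
  orth : ∀ η : (↥(W₁ ⊔ W₂) →* ℂˣ) → (G → ℂ), Cfsg.IsCyclicTIFamily W₁ W₂ η →
    ∀ ω, Cfsg.classInner χ (η ω) = 0
  ind : ∀ θ : ↥(derivedIn M) → ℂ, Cfsg.IsIrrCharacter ↥(derivedIn M) θ → θ ≠ (fun _ => 1) →
    Cfsg.classInner χ (tau M (Cfsg.indFun (derivedIn M) θ - θ 1 • ζ)) =
      Cfsg.classInner ζ (Cfsg.indFun (derivedIn M) θ - θ 1 • ζ)
  base : Cfsg.classInner χ (tau M (Cfsg.indFun (derivedIn M) (fun _ => 1) - ζ)) =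
    Cfsg.classInner ζ (Cfsg.indFun (derivedIn M) (fun _ => 1) - ζ)
  alpha : ∀ (ψ : ↥(W₁.subgroupOf M ⊔ W₂.subgroupOf M) →* ℂˣ) (δ : ℤ) (n d : ℕ) (μ ξ : ↥M → ℂ),
    Local.Data (derivedIn M) (W₁.subgroupOf M) (W₂.subgroupOf M) ψ δ n d ζ μ ξ →
      Cfsg.classInner χ (tau M (μ - (δ : ℂ) • (fun _ => (1 : ℂ)) - (n : ℂ) • ζ)) =
        Cfsg.classInner ζ (μ - (δ : ℂ) • (fun _ => (1 : ℂ)) - (n : ℂ) • ζ)

end Cfsg.Agent.Lib.OddOrder.PF10
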