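import Cfsg.Agent.Lib.OddOrder.TypeOne
import Cfsg.Agent.Lib.OddOrder.PF10.Key
import Cfsg.Agent.Lib.OddOrder.PrimeDade.Setup
import Cfsg.Agent.Lib.OddOrder.PF11.Tau

/-!
# Peterfalvi §10: the Dade map of `A₀(M)` on functions vanishing at `1` and on `W₁#`
-/

set_option autoImplicit false
set_option linter.style.haveILetI false
set_option linter.unusedSectionVars false

namespace Cfsg.Agent.Lib.OddOrder.PF10

open scoped ComplexConjugate Classical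
open Cfsg.Agent.Lib
open Cfsg.Agent.Lib.CyclicTI (IsP IsQ)
open Cfsg.Agent.Lib.OddOrder.PrimeDade (pull)
open Cfsg.Agent.Lib.OddOrder.Interface.PF11 (derivedIn tau)
open Cfsg.Agent.Lib.Induced.Basic (classInner_add_left classInner_add_right classInner_sub_left
  classInner_sub_right classInner_smul_left classInner_smul_right classInner_conj_symm)

universe u

variable {G : Type u} [Group G] [Fintype G]

/-- The setting of §10. -/
structure Ctx (M : Subgroup G) (H : Subgroup ↥M) (W₁ W₂ : Subgroup G) : Prop where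
  hyp : PrimeDade.Hyp M (derivedIn M) H W₁ W₂ (Cfsg.Agent.Lib.OddOrder.TypeOne.typeA0 M) (Cfsg.supportR M)
  sub : ∀ x : ↥M, x ∈ derivedIn M → x ≠ 1 → (x : G) ∈ Cfsg.Agent.Lib.OddOrder.TypeOne.typeA0 M
  le_two : W₂.subgroupOf M ≤ ⁅derivedIn M, derivedIn M⁆

/-- The principal character induced from `M'`. -/
noncomputable abbrev base (M : Subgroup G) [Fintype ↥M] : ↥M → ℂ :=
  Cfsg.indFun (derivedIn M) fun _ => 1

/-- `μ - δ 1 - n ζ`. -/
noncomputable def alphaF {M : Subgroup G} (δ : ℤ) (n : ℕ) (μ ζ : ↥M → ℂ) : ↥M → ℂ :=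
  μ - (δ : ℂ) • (fun _ => (1 : ℂ)) - (n : ℂ) • ζ

/-- `1_{M'}^M - ζ`. -/
noncomputable def gammaF {M : Subgroup G} [Fintype ↥M] (ζ : ↥M → ℂ) : ↥M → ℂ := base M - ζ

namespace Ctx

variable {M : Subgroup G} [Fintype ↥M] {H : Subgroup ↥M} {W₁ W₂ : Subgroup G}

theorem card₁ (c : Ctx M H W₁ W₂) : Nat.card (W₁.subgroupOf M) = Nat.card W₁ :=
  Nat.card_congr (Subgroup.subgroupOfEquivOfLe c.hyp.le₁).toEquiv

theorem card₂ (c : Ctx M H W₁ W₂) : Nat.card (W₂.subgroupOf M) = Nat.card W₂ :=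
  Nat.card_congr (Subgroup.subgroupOfEquivOfLe c.hyp.le₂).toEquiv

theorem three_le_q (c : Ctx M H W₁ W₂) : 3 ≤ Nat.card W₁ :=
  CyclicTI.three_le_card c.hyp.selfNormalizing.1 (CyclicTI.odd_factors c.hyp.odd_W).1

theorem three_le_p (c : Ctx M H W₁ W₂) : 3 ≤ Nat.card W₂ :=
  CyclicTI.three_le_card c.hyp.selfNormalizing.2.1 (CyclicTI.odd_factors c.hyp.odd_W).2

/-- Support criterion. -/
theorem supp (c : Ctx M H W₁ W₂) {f : ↥M → ℂ} (hf : Cfsg.IsClassFunction ↥M f) (h1 : f 1 = 0)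
    (hW : ∀ x : ↥M, (x : G) ∈ W₁ → x ≠ 1 → f x = 0) :
    ∀ x : ↥M, (x : G) ∉ Cfsg.Agent.Lib.OddOrder.TypeOne.typeA0 M → f x = 0 := by
  intro x hx
  haveI := c.hyp.K_normal
  by_cases hx1 : x = 1
  · rw [hx1, h1]
  by_cases hxK : x ∈ derivedIn M
  · exact absurd (c.sub x hxK hx1) hx
  obtain ⟨y, w, hw, e⟩ := c.hyp.plike.exists_conj_mem (g := x) hxK
  rw [← hf x y, e]
  by_cases hw1 : (w : ↥M) ∈ W₁.subgroupOf M
  · exact hW _ hw1 fun e1 => hw (by rw [e1]; exact one_mem _)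
  · exfalso
    have hwA : (((w : ↥M) : G)) ∈ Cfsg.Agent.Lib.OddOrder.TypeOne.typeA0 M :=
      c.hyp.mem_cyclic _ (PrimeDade.toG M W₁ W₂ w).2 (fun hm => hw1 hm) (fun hm => hw hm)
    have := c.hyp.dade.conj_mem ((y⁻¹ : ↥M) : G) (y⁻¹ : ↥M).2 _ hwA
    rw [← e] at this
    exact hx (by simpa [mul_assoc] using this)

theorem off_W₁ (c : Ctx M H W₁ W₂) {x : ↥M} (hx : (x : G) ∈ W₁) (hx1 : x ≠ 1) :
    x ∉ derivedIn M := fun hK => hx1 (by
  have : x ∈ derivedIn M ⊓ W₁.subgroupOf M := ⟨hK, hx⟩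
  rwa [c.hyp.plike.inf_eq, Subgroup.mem_bot] at this)

theorem supp_of_K (c : Ctx M H W₁ W₂) {f : ↥M → ℂ} (hf : Cfsg.IsClassFunction ↥M f) (h1 : f 1 = 0)
    (hK : ∀ x, x ∉ derivedIn M → f x = 0) : ∀ x : ↥M, (x : G) ∉ Cfsg.Agent.Lib.OddOrder.TypeOne.typeA0 M → f x = 0 :=
  c.supp hf h1 fun _ hx hx1 => hK _ (c.off_W₁ hx hx1)

theorem tau_gen (c : Ctx M H W₁ W₂) {f : ↥M → ℂ} (hf : Cfsg.IsGeneralizedCharacter ↥M f)
    (hs : ∀ x : ↥M, (x : G) ∉ Cfsg.Agent.Lib.OddOrder.TypeOne.typeA0 M → f x = 0) :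
    Cfsg.IsGeneralizedCharacter G (tau M f) :=
  Isometry.DadeGen.gen_dade c.hyp.dade hf hs

theorem tau_inner (c : Ctx M H W₁ W₂) {f g : ↥M → ℂ} (hf : Cfsg.IsClassFunction ↥M f)
    (hs : ∀ x : ↥M, (x : G) ∉ Cfsg.Agent.Lib.OddOrder.TypeOne.typeA0 M → f x = 0) (hg : Cfsg.IsClassFunction ↥M g) :
    Cfsg.classInner (tau M f) (tau M g) = Cfsg.classInner f g :=
  Isometry.Dade.classInner_dade_dade c.hyp.dade hf hs hg

theorem tau_one (c : Ctx M H W₁ W₂) {f : ↥M → ℂ} (hf : Cfsg.IsClassFunction ↥M f)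
    (hs : ∀ x : ↥M, (x : G) ∉ Cfsg.Agent.Lib.OddOrder.TypeOne.typeA0 M → f x = 0) :
    Cfsg.classInner (tau M f) (fun _ => 1) = Cfsg.classInner f (fun _ => 1) :=
  c.hyp.dade_inner_one hf hs

/-- The values of `τ f` on `W ∖ (W₁ ∪ W₂)`. -/
theorem tau_V (c : Ctx M H W₁ W₂) {f : ↥M → ℂ} (hf : Cfsg.IsClassFunction ↥M f)
    (w : ↥(W₁ ⊔ W₂)) (h₁ : (w : G) ∉ W₁) (h₂ : (w : G) ∉ W₂) (hwM : (w : G) ∈ M) :
    tau M f w = f ⟨w, hwM⟩ := by
  have := Isometry.Dade.dadeIsometry_coset c.hyp.dade hf ⟨w, hwM⟩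
    (c.hyp.mem_cyclic _ w.2 h₁ h₂) (u := 1) (one_mem _)
  rwa [mul_one] at this

theorem W_le (c : Ctx M H W₁ W₂) : W₁ ⊔ W₂ ≤ M := sup_le c.hyp.le₁ c.hyp.le₂

theorem V_not_K (c : Ctx M H W₁ W₂) (w : ↥(W₁ ⊔ W₂)) (h₂ : (w : G) ∉ W₂) (hwM : (w : G) ∈ M) :
    (⟨w, hwM⟩ : ↥M) ∉ derivedIn M := by
  haveI := c.hyp.K_normal
  obtain ⟨x, hx⟩ := (PrimeDade.toG_bijective c.hyp.le₁ c.hyp.le₂).2 w
  intro hK
  have e : (x : ↥M) = ⟨w, hwM⟩ := Subtype.ext (by rw [← PrimeDade.toG_coe x, hx])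
  have h := (c.hyp.plike.mem_K_iff x).1 (by rw [e]; exact hK)
  exact h₂ (by rw [← hx]; exact h)

/-- The data of `Local`, with `ψ` read on `W`. -/
theorem data_apply (c : Ctx M H W₁ W₂) {ψG : ↥(W₁ ⊔ W₂) →* ℂˣ} {δ : ℤ} {n d : ℕ}
    {ζ μ ξ : ↥M → ℂ}
    (hd : Local.Data (derivedIn M) (W₁.subgroupOf M) (W₂.subgroupOf M) (pull ψG) δ n d ζ μ ξ)
    (w : ↥(W₁ ⊔ W₂)) (h₂ : (w : G) ∉ W₂) (hwM : (w : G) ∈ M) :
    μ ⟨w, hwM⟩ = (δ : ℂ) * (ψG w : ℂ) := by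
  obtain ⟨x, hx⟩ := (PrimeDade.toG_bijective c.hyp.le₁ c.hyp.le₂).2 w
  have e : (x : ↥M) = ⟨w, hwM⟩ := Subtype.ext (by rw [← PrimeDade.toG_coe x, hx])
  rw [← e, hd.mu_W x (fun h => h₂ (by rw [← hx]; exact h)), ← hx]
  rfl

variable {ψ : ↥(W₁.subgroupOf M ⊔ W₂.subgroupOf M) →* ℂˣ} {δ : ℤ} {n d : ℕ} {ζ μ ξ : ↥M → ℂ}

theorem alpha_facts (c : Ctx M H W₁ W₂)
    (hd : Local.Data (derivedIn M) (W₁.subgroupOf M) (W₂.subgroupOf M) ψ δ n d ζ μ ξ) :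
    Cfsg.IsGeneralizedCharacter ↥M (alphaF δ n μ ζ) ∧
      (∀ x : ↥M, (x : G) ∉ Cfsg.Agent.Lib.OddOrder.TypeOne.typeA0 M → alphaF δ n μ ζ x = 0) ∧
      Cfsg.classInner (alphaF δ n μ ζ) (alphaF δ n μ ζ) = ((2 + (n : ℤ) ^ 2 : ℤ) : ℂ) ∧
      Cfsg.classInner (alphaF δ n μ ζ) ζ = -(n : ℂ) := by
  have hg : Cfsg.IsGeneralizedCharacter ↥M (alphaF δ n μ ζ) :=
    Isometry.Inner.gen_sub (Isometry.Inner.gen_sub (Isometry.Inner.gen_of_irr hd.mu_irr)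
      (Isometry.Inner.gen_intCast_smul (Isometry.Inner.gen_of_irr
        (Characters.Basic.oneChar ↥M).2) _))
      (by
        have := Isometry.Inner.gen_intCast_smul (Isometry.Inner.gen_of_irr hd.zeta_irr) (n : ℤ)
        rwa [Int.cast_natCast] at this)
  have hq : (d : ℂ) = (δ : ℂ) + (n : ℂ) * (Nat.card (W₁.subgroupOf M) : ℂ) := by
    exact_mod_cast congrArg (fun z : ℤ => (z : ℂ)) hd.degree_eq
  refine ⟨hg, c.supp (Isometry.Inner.gen_classFun hg) ?_ ?_, ?_, ?_⟩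
  · simp only [alphaF, Pi.sub_apply, Pi.smul_apply, smul_eq_mul, hd.mu_one, hd.zeta_one]
    linear_combination hq
  · intro x hx hx1
    have hxW : x ∈ W₁.subgroupOf M ⊔ W₂.subgroupOf M := Subgroup.mem_sup_left hx
    have h2 : x ∉ W₂.subgroupOf M := fun hm =>
      c.off_W₁ hx hx1 (c.hyp.plike.le hm)
    have e1 := hd.mu_W ⟨x, hxW⟩ h2
    rw [hd.isQ ⟨x, hxW⟩ hx, Units.val_one, mul_one] at e1
    simp only [alphaF, Pi.sub_apply, Pi.smul_apply, smul_eq_mul, e1,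
      hd.zeta_off x (c.off_W₁ hx hx1)]
    ring
  · have e1 := Characters.Basic.classInner_self_irr ⟨μ, hd.mu_irr⟩
    have e2 := Characters.Basic.classInner_self_irr ⟨ζ, hd.zeta_irr⟩
    have e3 : Cfsg.classInner (fun _ : ↥M => (1 : ℂ)) (fun _ => 1) = 1 :=
      Characters.Basic.classInner_self_irr ⟨_, (Characters.Basic.oneChar ↥M).2⟩
    have hs : (δ : ℂ) * (δ : ℂ) = 1 := by rcases hd.sign with e | e <;> simp [e]
    simp only [alphaF, classInner_sub_left, classInner_sub_right, classInner_smul_left,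
      classInner_smul_right, map_intCast, map_natCast]
    simp only [e1, e2, e3, hd.mu_zeta, hd.mu_trivial, hd.zeta_trivial,
      ← classInner_conj_symm μ ζ, ← classInner_conj_symm μ (fun _ => (1 : ℂ)),
      ← classInner_conj_symm ζ (fun _ => (1 : ℂ)), map_zero]
    push_cast
    linear_combination hs
  · simp only [alphaF, classInner_sub_left, classInner_smul_left, hd.mu_zeta,
      ← classInner_conj_symm ζ (fun _ => (1 : ℂ)), hd.zeta_trivial, map_zero, mul_zero,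
      Characters.Basic.classInner_self_irr ⟨ζ, hd.zeta_irr⟩]
    simp

theorem gamma_facts (c : Ctx M H W₁ W₂)
    (hd : Local.Data (derivedIn M) (W₁.subgroupOf M) (W₂.subgroupOf M) ψ δ n d ζ μ ξ) :
    Cfsg.IsGeneralizedCharacter ↥M (gammaF ζ) ∧
      (∀ x : ↥M, (x : G) ∉ Cfsg.Agent.Lib.OddOrder.TypeOne.typeA0 M → gammaF ζ x = 0) ∧
      (∀ x, x ∉ derivedIn M → gammaF ζ x = 0) ∧
      Cfsg.classInner (gammaF ζ) (gammaF ζ) = ((Nat.card W₁ + 1 : ℤ) : ℂ) ∧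
      Cfsg.classInner (gammaF ζ) ζ = -1 ∧
      Cfsg.classInner (gammaF ζ) (fun _ => 1) = 1 := by
  haveI := c.hyp.K_normal
  have hg : Cfsg.IsGeneralizedCharacter ↥M (gammaF ζ) :=
    Isometry.Inner.gen_sub (Isometry.Inner.gen_of_isCharacter (Induced.Character.isCharacter_indFun
      (derivedIn M) Characters.Basic.isCharacter_one))
      (Isometry.Inner.gen_of_irr hd.zeta_irr)
  have hK : ∀ x, x ∉ derivedIn M → gammaF ζ x = 0 := fun x hx => by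
    simp only [gammaF, base, Pi.sub_apply, Local.base_apply, if_neg hx, hd.zeta_off x hx, sub_self]
  have e2 := Characters.Basic.classInner_self_irr ⟨ζ, hd.zeta_irr⟩
  refine ⟨hg, c.supp_of_K (Isometry.Inner.gen_classFun hg) ?_ hK, hK, ?_, ?_, ?_⟩
  · simp only [gammaF, base, Pi.sub_apply, Local.base_apply, if_pos (one_mem _), hd.zeta_one,
      c.hyp.plike.index_eq, sub_self]
  · simp only [gammaF, base, classInner_sub_left, classInner_sub_right, hd.base_base,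
      hd.base_zeta, e2, ← classInner_conj_symm (Cfsg.indFun (derivedIn M) fun _ => (1 : ℂ)) ζ,
      map_zero, c.card₁]
    push_cast
    ring
  · simp only [gammaF, base, classInner_sub_left, hd.base_zeta, e2, zero_sub]
  · simp only [gammaF, base, classInner_sub_left, hd.base_trivial, hd.zeta_trivial, sub_zero]

theorem diff_facts (c : Ctx M H W₁ W₂) {f g : ↥M → ℂ}
    (hf : Cfsg.IsGeneralizedCharacter ↥M f) (hg : Cfsg.IsGeneralizedCharacter ↥M g) (h1 : f 1 = g 1)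
    (hoff : ∀ x, x ∉ derivedIn M → f x = g x) :
    Cfsg.IsGeneralizedCharacter ↥M (f - g) ∧
      ∀ x : ↥M, (x : G) ∉ Cfsg.Agent.Lib.OddOrder.TypeOne.typeA0 M → (f - g) x = 0 :=
  ⟨Isometry.Inner.gen_sub hf hg, c.supp_of_K (Isometry.Inner.gen_classFun (Isometry.Inner.gen_sub hf hg))
    (by simp [h1]) fun x hx => by simp [hoff x hx]⟩

end Ctx

end Cfsg.Agent.Lib.OddOrder.PF10
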