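import Cfsg.Agent.Lib.OddOrder.TypeOne
import Cfsg.Agent.Lib.OddOrder.PF10.Ctx

/-!
# Peterfalvi (10.4)-(10.7): coherence of `S(1)` gives the input of the counting argument
-/

set_option autoImplicit false
set_option linter.style.haveILetI false
set_option linter.unusedSectionVars false

namespace Cfsg.Agent.Lib.OddOrder.PF10.Bridge

open scoped ComplexConjugate Classical
open Cfsg.Agent.Lib
open Cfsg.Agent.Lib.OddOrder.Interface.PF11 (derivedIn tau)
open Cfsg.Agent.Lib.Induced.Basic (classInner_add_left classInner_add_right classInner_sub_left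
  classInner_sub_right classInner_smul_left classInner_smul_right classInner_conj_symm)

universe u

variable {G : Type u} [Group G] [Fintype G]

/-- Bessel's inequality for four orthogonal functions, the last of norm `q`. -/
theorem bessel4 {v e₁ e₂ e₃ e₄ : G → ℂ} {c₁ c₂ c₃ c₄ : ℤ} {N : ℤ} {q : ℕ} (hq : q ≠ 0)
    (o₁₂ : Cfsg.classInner e₁ e₂ = 0) (o₁₃ : Cfsg.classInner e₁ e₃ = 0)
    (o₁₄ : Cfsg.classInner e₁ e₄ = 0) (o₂₃ : Cfsg.classInner e₂ e₃ = 0)
    (o₂₄ : Cfsg.classInner e₂ e₄ = 0) (o₃₄ : Cfsg.classInner e₃ e₄ = 0)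
    (n₁ : Cfsg.classInner e₁ e₁ = 1) (n₂ : Cfsg.classInner e₂ e₂ = 1)
    (n₃ : Cfsg.classInner e₃ e₃ = 1) (n₄ : Cfsg.classInner e₄ e₄ = (q : ℂ))
    (h₁ : Cfsg.classInner v e₁ = c₁) (h₂ : Cfsg.classInner v e₂ = c₂)
    (h₃ : Cfsg.classInner v e₃ = c₃) (h₄ : Cfsg.classInner v e₄ = c₄)
    (hv : Cfsg.classInner v v = N) :
    (c₁ ^ 2 + c₂ ^ 2 + c₃ ^ 2) * q + c₄ ^ 2 ≤ N * q := by
  have sw : ∀ {a b : G → ℂ}, Cfsg.classInner a b = 0 → Cfsg.classInner b a = 0 := fun {a b} h => by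
    rw [← classInner_conj_symm a b, h, map_zero]
  have hb := Isometry.Coherence.bessel (Finset.univ : Finset (Fin 4)) ![e₁, e₂, e₃, e₄]
    ![1, 1, 1, (q : ℝ)] ![(c₁ : ℝ), c₂, c₃, c₄] v
    (fun i _ j _ hij => by
      fin_cases i <;> fin_cases j <;>
        simp [o₁₂, o₁₃, o₁₄, o₂₃, o₂₄, o₃₄, sw o₁₂, sw o₁₃, sw o₁₄, sw o₂₃, sw o₂₄, sw o₃₄]
          at hij ⊢)
    (fun i _ => by fin_cases i <;> simp [n₁, n₂, n₃, n₄])
    (fun i _ => by fin_cases i <;> simp [hq])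
    (fun i _ => by fin_cases i <;> simp [h₁, h₂, h₃, h₄])
  have hnn := Isometry.Inner.classInner_self_re_nonneg
    (v - ∑ i, (((![(c₁ : ℝ), c₂, c₃, c₄] i / ![1, 1, 1, (q : ℝ)] i : ℝ)) : ℂ) • ![e₁, e₂, e₃, e₄] i)
  rw [hb, hv] at hnn
  simp [Fin.sum_univ_four, ← Complex.ofReal_intCast, -Complex.ofReal_pow] at hnn
  have hq0 : (0 : ℝ) < q := by exact_mod_cast Nat.pos_of_ne_zero hq
  have h : (((c₁ ^ 2 + c₂ ^ 2 + c₃ ^ 2) * q + c₄ ^ 2 : ℤ) : ℝ) ≤ ((N * q : ℤ) : ℝ) := by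
    push_cast
    have h5 : (c₄ : ℝ) ^ 2 / q * q = (c₄ : ℝ) ^ 2 := div_mul_cancel₀ _ hq0.ne'
    nlinarith [mul_nonneg (sub_nonneg.2 hnn) hq0.le]
  exact_mod_cast h

variable {M : Subgroup G} [Fintype ↥M] {H : Subgroup ↥M} {W₁ W₂ : Subgroup G}

theorem arith_gamma {b q n d δ : ℤ} (hδ : δ = 1 ∨ δ = -1) (hn : 2 ≤ n) (hq : 3 ≤ q)
    (hd : d = δ + n * q)
    (h : ((b - 1) ^ 2 + b ^ 2 + 1 ^ 2) * q + (d * b) ^ 2 ≤ (q + 1) * q) : b = 0 := by
  by_contra hb
  have hb1 : 1 ≤ b ^ 2 := by have := sq_pos_iff.2 hb; omega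
  have hdq : q + 1 ≤ d := by rcases hδ with e | e <;> nlinarith
  have h2 : (q + 1) ^ 2 ≤ d ^ 2 := pow_le_pow_left₀ (by omega) hdq 2
  have h3 : (q + 1) ^ 2 ≤ (d * b) ^ 2 := by
    rw [mul_pow]
    exact h2.trans (le_mul_of_one_le_right (sq_nonneg d) hb1)
  have h4 : 0 ≤ ((b - 1) ^ 2 + b ^ 2) * q := mul_nonneg (by positivity) (by omega)
  linarith [show (q + 1) ^ 2 = (q + 1) * q + q + 1 by ring,
    show ((b - 1) ^ 2 + b ^ 2 + 1 ^ 2) * q = ((b - 1) ^ 2 + b ^ 2) * q + q by ring]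

theorem arith_alpha {a q n d δ : ℤ} (hδ : δ = 1 ∨ δ = -1) (hn : 2 ≤ n) (hq : 3 ≤ q)
    (hd : d = δ + n * q)
    (h : ((a - n) ^ 2 + a ^ 2 + (-δ) ^ 2) * q + (1 + d * a) ^ 2 ≤ (2 + n ^ 2) * q) : a = 0 := by
  have hδ2 : (-δ) ^ 2 = 1 := by rcases hδ with e | e <;> simp [e]
  rw [hδ2] at h
  have h' : (2 * a ^ 2 - 2 * a * n - 1) * q + (1 + d * a) ^ 2 ≤ 0 := by
    linarith [show ((a - n) ^ 2 + a ^ 2 + 1) * q - (2 + n ^ 2) * q =
      (2 * a ^ 2 - 2 * a * n - 1) * q by ring]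
  have hd' : n * q - 1 ≤ d := by rcases hδ with e | e <;> omega
  have h7 : 0 ≤ n * q - 1 := by nlinarith
  rcases lt_trichotomy a 0 with hlt | h0 | hgt
  · exfalso
    have h5 : 1 ≤ 2 * a ^ 2 - 2 * a * n - 1 := by nlinarith
    nlinarith [sq_nonneg (1 + d * a)]
  · exact h0
  · exfalso
    have hm : (2 * n + 1) * q < (n * q - 1) ^ 2 := by nlinarith [mul_le_mul hn hq (by norm_num) (by omega)]
    have h8 : (n * q - 1) * a ≤ 1 + d * a := by nlinarith
    have h9 : ((n * q - 1) * a) ^ 2 ≤ (1 + d * a) ^ 2 :=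
      pow_le_pow_left₀ (mul_nonneg h7 hgt.le) h8 2
    have h10 : (n * q - 1) ^ 2 * a ≤ ((n * q - 1) * a) ^ 2 := by
      rw [mul_pow]
      exact mul_le_mul_of_nonneg_left (by nlinarith) (sq_nonneg _)
    have h11 : (2 * n + 1) * q * a < (n * q - 1) ^ 2 * a := mul_lt_mul_of_pos_right hm hgt
    have h12 : 0 ≤ 2 * a ^ 2 * q + (a - 1) * q :=
      add_nonneg (mul_nonneg (by positivity) (by omega)) (mul_nonneg (by omega) (by omega))
    linarith [show (2 * a ^ 2 - 2 * a * n - 1) * q + (2 * n + 1) * q * a =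
      2 * a ^ 2 * q + (a - 1) * q by ring]

/-- Coherence gives `Key`. -/
theorem exists_key (c : Ctx M H W₁ W₂) (hsolv : Group.IsSolvable ↥(derivedIn M))
    (hcoh : Cfsg.IsCoherent (Cfsg.inducedIrrAbove (derivedIn M) ⊥) {1}ᶜ (tau M)) :
    ∃ (ζ : ↥M → ℂ) (χ : G → ℂ), Key M W₁ W₂ ζ χ := by
  obtain ⟨-, τ₁, ⟨hadd, hsmul, hiso, hgen⟩, heq⟩ := hcoh
  haveI := c.hyp.K_normal
  set K := derivedIn M
  set S := Cfsg.inducedIrrAbove K ⊥ with hS
  have hoddM : Odd (Nat.card ↥M) := c.hyp.odd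
  obtain ⟨ζ, hζirr, hζmem, hζ1⟩ := Local.exists_zeta c.hyp.plike hsolv c.le_two
  have hmemS : ∀ {f : ↥M → ℂ}, f ∈ S → f ∈ Cfsg.zspan S := fun h => Isometry.Inner.subset_zspan S h
  have hgenS : ∀ {f : ↥M → ℂ}, f ∈ S → Cfsg.IsGeneralizedCharacter ↥M f := by
    rintro f ⟨θ, hθ, -, -, rfl⟩
    exact Isometry.Inner.gen_of_isCharacter (Induced.Character.isCharacter_indFun K
      (Characters.Basic.IsCharacter_of_isIrrCharacter hθ))
  have hoffS : ∀ {f : ↥M → ℂ}, f ∈ S → ∀ x, x ∉ K → f x = 0 := by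
    rintro f ⟨θ, hθ, -, -, rfl⟩ x hx
    exact Induced.Basic.indFun_eq_zero_of_not_mem_normal K _ hx
  -- `τ₁` on combinations vanishing at one
  have hcomb : ∀ {f g : ↥M → ℂ} (m : ℤ), f ∈ S → g ∈ S → f 1 = (m : ℂ) * g 1 →
      tau M (f - (m : ℂ) • g) = τ₁ f - (m : ℂ) • τ₁ g ∧
      Cfsg.IsGeneralizedCharacter ↥M (f - (m : ℂ) • g) ∧
      ∀ x : ↥M, (x : G) ∉ Cfsg.Agent.Lib.OddOrder.TypeOne.typeA0 M → (f - (m : ℂ) • g) x = 0 := by
    intro f g m hf hg h1
    have hz : f - (m : ℂ) • g ∈ Cfsg.zspanOn S {1}ᶜ := by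
      refine ⟨Isometry.Coherence.zspan_sub (hmemS hf) (Isometry.Coherence.zspan_smul m (hmemS hg)),
        fun x hx => ?_⟩
      rw [Set.mem_compl_iff, Set.mem_singleton_iff, not_not] at hx
      subst hx
      simp [h1]
    have hgc := Isometry.Inner.gen_sub (hgenS hf) (Isometry.Inner.gen_intCast_smul (hgenS hg) m)
    refine ⟨?_, hgc, c.supp_of_K (Isometry.Inner.gen_classFun hgc) (by simp [h1])
      fun x hx => by simp [hoffS hf x hx, hoffS hg x hx]⟩
    rw [← heq _ hz, sub_eq_add_neg, ← neg_smul, ← Int.cast_neg,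
      hadd _ (hmemS hf) _ (Isometry.Coherence.zspan_smul _ (hmemS hg)), Int.cast_smul_eq_zsmul,
      hsmul _ (hmemS hg), sub_eq_add_neg, neg_smul, Int.cast_smul_eq_zsmul]
  -- the conjugate
  obtain ⟨ψ₀, δ₀, n₀, d₀, μ₀, ξ₀, hd₀⟩ := Local.exists_data c.hyp.plike hoddM c.le_two hζirr hζmem hζ1
  set ζc := Cfsg.conjFun ζ with hζcdef
  have hζcmem : ζc ∈ S := hd₀.conj_mem
  have hζc1 : ζc 1 = ((1 : ℤ) : ℂ) * ζ 1 := by
    simp [hζcdef, Cfsg.conjFun, hd₀.zeta_one]
  have hζζ : Cfsg.classInner ζ ζ = 1 := Characters.Basic.classInner_self_irr ⟨ζ, hζirr⟩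
  have hζζc : Cfsg.classInner ζ ζc = 0 := by
    rw [Isometry.Inner.classInner_irr_eq hζirr (Isometry.Inner.conjFun_irr hζirr),
      if_neg (Ne.symm hd₀.conj_ne)]
  have hζcζc : Cfsg.classInner ζc ζc = 1 :=
    Characters.Basic.classInner_self_irr ⟨ζc, Isometry.Inner.conjFun_irr hζirr⟩
  set χ := τ₁ ζ with hχ
  set χc := τ₁ ζc with hχc
  have hχg := hgen _ (hmemS hζmem)
  have hχcg := hgen _ (hmemS hζcmem)
  have nχ : Cfsg.classInner χ χ = 1 := by rw [hχ, hiso _ (hmemS hζmem) _ (hmemS hζmem), hζζ]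
  have nχc : Cfsg.classInner χc χc = 1 := by rw [hχc, hiso _ (hmemS hζcmem) _ (hmemS hζcmem), hζcζc]
  have oχ : Cfsg.classInner χ χc = 0 := by rw [hχ, hχc, hiso _ (hmemS hζmem) _ (hmemS hζcmem), hζζc]
  have sχ := Isometry.Inner.signed_of_norm_one hχg nχ
  -- `θ = τ (ζ - ζ̄)`
  obtain ⟨hθeq, hθgM, hθs⟩ := hcomb 1 hζmem hζcmem (by rw [hζc1, Int.cast_one, one_mul, one_mul])
  rw [Int.cast_one, one_smul, one_smul] at hθeq
  rw [Int.cast_one, one_smul] at hθgM hθs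
  rw [← hχ, ← hχc] at hθeq
  set θd := ζ - ζc with hθd
  have hθcl := Isometry.Inner.gen_classFun hθgM
  have nθ : Cfsg.classInner (tau M θd) (tau M θd) = ((2 : ℤ) : ℂ) := by
    rw [hθeq, classInner_sub_left, classInner_sub_right, classInner_sub_right, nχ, nχc, oχ,
      ← classInner_conj_symm χ χc, oχ, map_zero]
    norm_num
  have orth : ∀ η : (↥(W₁ ⊔ W₂) →* ℂˣ) → (G → ℂ), Cfsg.IsCyclicTIFamily W₁ W₂ η →
      ∀ ω, Cfsg.classInner χ (η ω) = 0 ∧ Cfsg.classInner χc (η ω) = 0 := by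
    intro η hη ω
    have hθη := PF11.Tau.orth_small hη c.hyp.selfNormalizing c.three_le_q c.three_le_p
      (c.tau_gen hθgM hθs) (fun w h1 h2 => by
        rw [c.tau_V hθcl w h1 h2 (c.W_le w.2), hθd, Pi.sub_apply,
          hoffS hζmem _ (c.V_not_K w h2 _), hoffS hζcmem _ (c.V_not_K w h2 _), sub_self])
      nθ le_rfl ω
    rw [hθeq, classInner_sub_left, sub_eq_zero] at hθη
    rcases Isometry.Inner.signed_cases sχ (hη.irr_or_neg ω) with e | ⟨ε, hε, e, hv⟩
    · exact ⟨e, hθη ▸ e⟩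
    · exfalso
      have h0 : Cfsg.classInner χc (η ω) = 0 := by
        have h1 : Cfsg.classInner χc χ = 0 := by rw [← classInner_conj_symm χ χc, oχ, map_zero]
        rw [show χ = ε • η ω from e, classInner_smul_right] at h1
        refine (mul_eq_zero.1 h1).resolve_left ?_
        rcases hε with e' | e' <;> simp [e']
      rw [hv, h0] at hθη
      rcases hε with e' | e' <;> simp [e'] at hθη
  obtain ⟨η, hη⟩ := CyclicTI.exists_family (G := G) c.hyp.selfNormalizing c.hyp.odd_W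
  have oχ1 : Cfsg.classInner χ (fun _ => 1) = 0 := by rw [← hη.map_one]; exact (orth η hη 1).1
  have oχc1 : Cfsg.classInner χc (fun _ => 1) = 0 := by rw [← hη.map_one]; exact (orth η hη 1).2
  have n1 : Cfsg.classInner (fun _ : G => (1 : ℂ)) (fun _ => 1) = 1 := by
    rw [← hη.map_one, hη.orthonormal, if_pos rfl]
  refine ⟨ζ, χ, hζirr, hζmem, by rw [hζ1, c.card₁], sχ, fun η hη ω => (orth η hη ω).1, ?_, ?_, ?_⟩
  · intro θ hθ hθ1
    obtain ⟨m, hm0, hm⟩ := Characters.Basic.exists_degree_pos ⟨θ, hθ⟩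
    change θ 1 = (m : ℂ) at hm
    have hf : Cfsg.indFun K θ ∈ S := ⟨θ, hθ, hθ1,
      fun a ha => by rw [show a = 1 from Subtype.ext (Subgroup.mem_bot.1 ha)], rfl⟩
    obtain ⟨e, -, -⟩ := hcomb (m : ℤ) hf hζmem (by
      rw [Induced.Basic.indFun_one, hm, hd₀.zeta_one, c.hyp.plike.index_eq]; push_cast; ring)
    rw [Int.cast_natCast] at e
    rw [hm, e, hχ, classInner_sub_right, classInner_smul_right, classInner_sub_right,
      classInner_smul_right, hiso _ (hmemS hζmem) _ (hmemS hf), hiso _ (hmemS hζmem) _ (hmemS hζmem)]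
  · -- `b = 0`
    obtain ⟨hg, hs, -, hn, hgz, hg1⟩ := c.gamma_facts hd₀
    have hcl := Isometry.Inner.gen_classFun hg
    set v := tau M (gammaF ζ) with hv
    have hvg := c.tau_gen hg hs
    obtain ⟨b, hb⟩ := Isometry.Inner.classInner_gen_int hvg hχcg
    have hgzc : Cfsg.classInner (gammaF ζ) ζc = 0 := by
      simp only [gammaF, base, classInner_sub_left, hζcdef, hd₀.base_conj]
      rw [← hζcdef, hζζc, sub_zero]
    have hbχ : Cfsg.classInner v χ = ((b - 1 : ℤ) : ℂ) := by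
      have h1 := c.tau_inner hcl hs hθcl
      rw [hθeq, hθd, classInner_sub_right, classInner_sub_right, hgz, hgzc, hb] at h1
      push_cast
      linear_combination h1
    have hξdeg : ξ₀ 1 = (((d₀ : ℤ)) : ℂ) * ζ 1 := by
      rw [hd₀.xi_one, hd₀.zeta_one]; push_cast; ring
    obtain ⟨hξeq, hξg, hξs⟩ := hcomb (d₀ : ℤ) hd₀.xi_mem hζmem hξdeg
    rw [Int.cast_natCast] at hξeq hξg hξs
    rw [← hχ] at hξeq
    set X := τ₁ ξ₀
    have hbX : Cfsg.classInner v X = (((d₀ : ℤ) * b : ℤ) : ℂ) := by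
      have h1 := c.tau_inner hcl hs (Isometry.Inner.gen_classFun hξg)
      have h2 : Cfsg.classInner (gammaF ζ) ξ₀ = 0 := by
        simp only [gammaF, base, classInner_sub_left, hd₀.base_xi, hd₀.zeta_xi, sub_zero]
      rw [hξeq, classInner_sub_right, classInner_sub_right, classInner_smul_right,
        classInner_smul_right, hgz, h2, map_natCast, hbχ] at h1
      push_cast at h1 ⊢
      linear_combination h1
    have hX1 : Cfsg.classInner X (fun _ => 1) = 0 := by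
      have h1 := c.tau_one (Isometry.Inner.gen_classFun hξg) hξs
      rw [hξeq, classInner_sub_left, classInner_sub_left, classInner_smul_left, classInner_smul_left,
        oχ1, hd₀.zeta_trivial, mul_zero, sub_zero, sub_zero] at h1
      rw [h1, ← classInner_conj_symm (fun _ : ↥M => (1 : ℂ)) ξ₀, hd₀.one_xi, map_zero]
    have hv1 : Cfsg.classInner v (fun _ => 1) = ((1 : ℤ) : ℂ) := by
      rw [hv, c.tau_one hcl hs, hg1, Int.cast_one]
    have hvv : Cfsg.classInner v v = ((Nat.card W₁ + 1 : ℤ) : ℂ) := by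
      rw [hv, c.tau_inner hcl hs hcl, hn]
    have hξzc : Cfsg.classInner χc X = 0 := by
      rw [hχc, hiso _ (hmemS hζcmem) _ (hmemS hd₀.xi_mem)]; exact hd₀.conj_xi
    have hξz : Cfsg.classInner χ X = 0 := by
      rw [hχ, hiso _ (hmemS hζmem) _ (hmemS hd₀.xi_mem)]; exact hd₀.zeta_xi
    have nX : Cfsg.classInner X X = (Nat.card W₁ : ℂ) := by
      rw [hiso _ (hmemS hd₀.xi_mem) _ (hmemS hd₀.xi_mem), hd₀.xi_xi, c.card₁]
    have hbes := bessel4 (Nat.card_pos (α := W₁)).ne' oχ oχ1 hξz oχc1 hξzc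
      (by rw [← classInner_conj_symm X (fun _ => (1 : ℂ)), hX1, map_zero]) nχ nχc n1 nX
      hbχ hb hv1 hbX hvv
    have hb0 : b = 0 := by
      have h4 := hd₀.degree_eq
      rw [c.card₁] at h4
      exact arith_gamma hd₀.sign (by exact_mod_cast hd₀.two_le_n) (by exact_mod_cast c.three_le_q) h4
        hbes
    change Cfsg.classInner χ v = Cfsg.classInner ζ (gammaF ζ)
    rw [← classInner_conj_symm v χ, hbχ, hb0, map_intCast, ← classInner_conj_symm (gammaF ζ) ζ, hgz,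
      map_neg, map_one]
    norm_num
  · -- `a = 0`
    intro ψ δ n d μ ξ hd
    obtain ⟨hg, hs, hn, hgz⟩ := c.alpha_facts hd
    have hcl := Isometry.Inner.gen_classFun hg
    set v := tau M (alphaF δ n μ ζ) with hv
    have hvg := c.tau_gen hg hs
    obtain ⟨a, ha⟩ := Isometry.Inner.classInner_gen_int hvg hχcg
    have hone : ∀ f : ↥M → ℂ, Cfsg.classInner f (fun _ => (1 : ℂ)) = 0 →
        Cfsg.classInner (fun _ => (1 : ℂ)) f = 0 := fun f h => by
      rw [← classInner_conj_symm f (fun _ => (1 : ℂ)), h, map_zero]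
    have hzc1 : Cfsg.classInner ζc (fun _ => (1 : ℂ)) = 0 := by
      have e : (fun _ : ↥M => (1 : ℂ)) = Cfsg.conjFun (fun _ => 1) := funext fun _ => (map_one _).symm
      rw [e, hζcdef, Isometry.Inner.classInner_conjFun, hd.zeta_trivial, map_zero]
    have hgzc : Cfsg.classInner (alphaF δ n μ ζ) ζc = 0 := by
      simp only [alphaF, classInner_sub_left, classInner_smul_left, hζζc, hone _ hzc1]
      rw [hζcdef, hd.mu_conj]
      ring
    have haχ : Cfsg.classInner v χ = ((a - n : ℤ) : ℂ) := by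
      have h1 := c.tau_inner hcl hs hθcl
      rw [hθeq, hθd, classInner_sub_right, classInner_sub_right, hgz, hgzc, ha] at h1
      push_cast
      linear_combination h1
    have hξdeg : ξ 1 = (((d : ℤ)) : ℂ) * ζ 1 := by
      rw [hd.xi_one, hd.zeta_one]; push_cast; ring
    obtain ⟨hξeq, hξg, hξs⟩ := hcomb (d : ℤ) hd.xi_mem hζmem hξdeg
    rw [Int.cast_natCast] at hξeq hξg hξs
    rw [← hχ] at hξeq
    set X := τ₁ ξ
    have haX : Cfsg.classInner v X = ((1 + (d : ℤ) * a : ℤ) : ℂ) := by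
      have h1 := c.tau_inner hcl hs (Isometry.Inner.gen_classFun hξg)
      have h2 : Cfsg.classInner (alphaF δ n μ ζ) ξ = 1 := by
        simp only [alphaF, classInner_sub_left, classInner_smul_left, hd.mu_xi, hd.one_xi,
          hd.zeta_xi]
        ring
      rw [hξeq, classInner_sub_right, classInner_sub_right, classInner_smul_right,
        classInner_smul_right, hgz, h2, map_natCast, haχ] at h1
      push_cast at h1 ⊢
      linear_combination h1
    have hX1 : Cfsg.classInner X (fun _ => 1) = 0 := by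
      have h1 := c.tau_one (Isometry.Inner.gen_classFun hξg) hξs
      rw [hξeq, classInner_sub_left, classInner_sub_left, classInner_smul_left, classInner_smul_left,
        oχ1, hd.zeta_trivial, mul_zero, sub_zero, sub_zero] at h1
      rw [h1, ← classInner_conj_symm (fun _ : ↥M => (1 : ℂ)) ξ, hd.one_xi, map_zero]
    have hv1 : Cfsg.classInner v (fun _ => 1) = ((-δ : ℤ) : ℂ) := by
      rw [hv, c.tau_one hcl hs]
      simp only [alphaF, classInner_sub_left, classInner_smul_left, hd.mu_trivial, hd.zeta_trivial]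
      rw [show Cfsg.classInner (fun _ : ↥M => (1 : ℂ)) (fun _ => 1) = 1 from
        Characters.Basic.classInner_self_irr ⟨_, (Characters.Basic.oneChar ↥M).2⟩]
      push_cast
      ring
    have hvv : Cfsg.classInner v v = ((2 + (n : ℤ) ^ 2 : ℤ) : ℂ) := by
      rw [hv, c.tau_inner hcl hs hcl, hn]
    have hξzc : Cfsg.classInner χc X = 0 := by
      rw [hχc, hiso _ (hmemS hζcmem) _ (hmemS hd.xi_mem)]; exact hd.conj_xi
    have hξz : Cfsg.classInner χ X = 0 := by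
      rw [hχ, hiso _ (hmemS hζmem) _ (hmemS hd.xi_mem)]; exact hd.zeta_xi
    have nX : Cfsg.classInner X X = (Nat.card W₁ : ℂ) := by
      rw [hiso _ (hmemS hd.xi_mem) _ (hmemS hd.xi_mem), hd.xi_xi, c.card₁]
    have hbes := bessel4 (Nat.card_pos (α := W₁)).ne' oχ oχ1 hξz oχc1 hξzc
      (by rw [← classInner_conj_symm X (fun _ => (1 : ℂ)), hX1, map_zero]) nχ nχc n1 nX
      haχ ha hv1 haX hvv
    have ha0 : a = 0 := by
      have h4 := hd.degree_eq
      rw [c.card₁] at h4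
      exact arith_alpha hd.sign (by exact_mod_cast hd.two_le_n) (by exact_mod_cast c.three_le_q) h4
        hbes
    change Cfsg.classInner χ v = Cfsg.classInner ζ (alphaF δ n μ ζ)
    rw [← classInner_conj_symm v χ, haχ, ha0, map_intCast, ← classInner_conj_symm (alphaF δ n μ ζ) ζ,
      hgz, map_neg, map_natCast]
    push_cast
    ring

end Cfsg.Agent.Lib.OddOrder.PF10.Bridge
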