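import Cfsg.Agent.Lib.OddOrder.PF10.MSide
import Cfsg.Agent.Lib.OddOrder.PF8.TypeP
import Cfsg.Agent.Lib.OddOrder.MinSimple
import Cfsg.Agent.Lib.OddOrder.PF14.Zones
import Cfsg.Agent.Lib.ClassSizes.CopDiv
import Cfsg.Agent.Lib.Coprime.Glauberman

/-!
# Peterfalvi (10.7): transport of `Ã₁` under conjugation, orders, and the covering estimate
-/

set_option autoImplicit false
set_option linter.style.haveILetI false
set_option linter.unusedSectionVars false

namespace Cfsg.Agent.Lib.OddOrder.PF10.Cover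

open scoped Classical commutatorElement
open Cfsg.Agent.Lib
open Cfsg.Agent.Lib.OddOrder.PF8.Conj (im)
open Cfsg.Agent.Lib.OddOrder.Interface.PF8 (cyclicSet)

universe u

variable {G : Type u} [Group G]

/-- `R` commutes with isomorphisms. -/
theorem supportR_im {G' : Type u} [Group G'] [Finite G] [Finite G'] (φ : G ≃* G') (M : Subgroup G)
    (x : G) :
    Cfsg.supportR (im φ M) (φ x) = im φ (Cfsg.supportR M x) := by
  have hc : Subgroup.centralizer ({φ x} : Set G') = im φ (Subgroup.centralizer ({x} : Set G)) :=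
    (PF8.Conj.im_centralizer_singleton φ x).symm
  have hle : Subgroup.centralizer ({φ x} : Set G') ≤ im φ M ↔
      Subgroup.centralizer ({x} : Set G) ≤ M := by rw [hc, PF8.Conj.im_le]
  by_cases hM : Subgroup.centralizer ({x} : Set G) ≤ M
  · rw [PF8.Dade.supportR_eq_bot hM, PF8.Dade.supportR_eq_bot (hle.2 hM)]
    exact (Subgroup.map_bot _).symm
  have hiff : ∀ L : Subgroup G, (IsCoatom (im φ L) ∧ Subgroup.centralizer ({φ x} : Set G') ≤ im φ L)
      ↔ (IsCoatom L ∧ Subgroup.centralizer ({x} : Set G) ≤ L) := fun L => by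
    rw [hc, PF8.Conj.im_le]
    refine and_congr ⟨fun h => ?_, PF8.Conj.im_isCoatom φ⟩ Iff.rfl
    have := PF8.Conj.im_isCoatom φ.symm h
    rwa [PF8.Conj.im_symm_im] at this
  have hsurj : ∀ L' : Subgroup G', ∃ L : Subgroup G, im φ L = L' := fun L' =>
    ⟨im φ.symm L', by
      have := PF8.Conj.im_symm_im (φ := φ.symm) L'
      rwa [φ.symm_symm] at this⟩
  have hu : (∃! L' : Subgroup G', IsCoatom L' ∧ Subgroup.centralizer ({φ x} : Set G') ≤ L') ↔
      ∃! L : Subgroup G, IsCoatom L ∧ Subgroup.centralizer ({x} : Set G) ≤ L := by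
    constructor
    · rintro ⟨L', hL', huniq⟩
      obtain ⟨L, rfl⟩ := hsurj L'
      exact ⟨L, (hiff L).1 hL', fun K hK =>
        (PF8.Conj.im_inj φ).1 (huniq _ ((hiff K).2 hK))⟩
    · rintro ⟨L, hL, huniq⟩
      refine ⟨im φ L, (hiff L).2 hL, fun K' hK' => ?_⟩
      obtain ⟨K, rfl⟩ := hsurj K'
      rw [huniq K ((hiff K).1 hK')]
  by_cases h : ∃! L : Subgroup G, IsCoatom L ∧ Subgroup.centralizer ({x} : Set G) ≤ L
  · rw [Cfsg.supportR, Cfsg.supportR, dif_pos ⟨fun e => hM (hle.1 e), hu.2 h⟩, dif_pos ⟨hM, h⟩,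
      PF8.Conj.im_inf, ← hc, PF8.Conj.im_fittingHallOf]
    congr 2
    exact (hu.2 h).unique (Classical.choose_spec (hu.2 h).exists)
      ((hiff _).2 (Classical.choose_spec h.exists))
  · rw [Cfsg.supportR, Cfsg.supportR, dif_neg fun e => h (hu.1 e.2), dif_neg fun e => h e.2]
    exact (Subgroup.map_bot _).symm

theorem tilde_conj_subset [Finite G] (N : Subgroup G) (g : G) :
    Cfsg.tildeOf (im (MulAut.conj g) N) (Cfsg.typeA1 (im (MulAut.conj g) N)) ⊆
      Cfsg.tildeOf N (Cfsg.typeA1 N) := by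
  rintro _ ⟨a, ha, r, hr, y, rfl⟩
  obtain ⟨a₀, rfl⟩ := (MulAut.conj g).surjective a
  rw [PF8.Conj.mem_typeA1_im] at ha
  rw [supportR_im] at hr
  obtain ⟨r₀, hr₀, rfl⟩ := hr
  refine ⟨a₀, ha, r₀, hr₀, y * g, ?_⟩
  simp only [MulEquiv.coe_toMonoidHom, MulAut.conj_apply]
  group

/-- `Ã₁` depends only on the class of the subgroup. -/
theorem tilde_conj [Finite G] (N : Subgroup G) (g : G) :
    Cfsg.tildeOf (im (MulAut.conj g) N) (Cfsg.typeA1 (im (MulAut.conj g) N)) =
      Cfsg.tildeOf N (Cfsg.typeA1 N) := by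
  refine (tilde_conj_subset N g).antisymm ?_
  have h := tilde_conj_subset (im (MulAut.conj g) N) g⁻¹
  rwa [PF8.TypeP.im_conj_mul, inv_mul_cancel, PF8.TypeP.im_conj_self (one_mem N)] at h

/-- `q` divides `|K : K'| - 1`, so `|K| ≥ (2 q + 1) |W₂|`. -/
theorem card_kernel_bound {L : Type u} [Group L] [Fintype L] {K A B : Subgroup L} [hK : K.Normal]
    (h : CyclicTI.IsPLike K A B) (hodd : Odd (Nat.card L)) (hsolv : Group.IsSolvable K)
    (hle : B ≤ ⁅K, K⁆) : (2 * Nat.card A + 1) * Nat.card B ≤ Nat.card K := by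
  set D := ⁅K, K⁆ with hD
  haveI : D.Normal := Subgroup.commutator_normal K K
  have hDK : D ≤ K := Subgroup.commutator_le_right K K
  set π := QuotientGroup.mk' D
  set N := K.map π with hN
  haveI hNn : N.Normal := hK.map π (QuotientGroup.mk'_surjective D)
  haveI := h.cyclic₁
  letI : MulAction ↥A ↥N := MulAction.compHom ↥N ((MulAut.conjNormal (H := N)).comp (π.comp A.subtype))
  have hsmul : ∀ (a : A) (b : N), ((a • b : N) : L ⧸ D) = π a * b * (π a)⁻¹ := fun _ _ => rfl
  have hdvd : Nat.card A ∣ Nat.card N - 1 := by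
    refine ClassSizes.CopDiv.dvd_card_sub_one (H := A) (1 : N)
      (fun a => Subtype.ext (by rw [hsmul]; simp)) fun b hb => ?_
    suffices MulAction.stabilizer A b = ⊥ by rw [this, Subgroup.index_bot]
    rw [eq_bot_iff]
    intro a ha
    by_contra hne
    obtain ⟨k, hk, hkb⟩ := b.2
    have ha1 : (a : L) ≠ 1 := fun e => hne (Subgroup.mem_bot.2 (Subtype.ext e))
    have hza : Subgroup.zpowers (a : L) ≤ A := Subgroup.zpowers_le.2 a.2
    obtain ⟨x, hx, hxc⟩ := Coprime.exists_fixed_mul (A := Subgroup.zpowers (a : L)) (N := D) (k := k)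
      (by rw [Subgroup.normalizer_eq_top]; exact le_top)
      ((h.coprime.coprime_dvd_left (Subgroup.card_dvd_of_le hza)).coprime_dvd_right
        (Subgroup.card_dvd_of_le hDK))
      (Or.inl inferInstance)
      (fun z hz => by
        obtain ⟨i, rfl⟩ := hz
        have hi : a ^ i ∈ MulAction.stabilizer A b := zpow_mem ha i
        have e := congrArg Subtype.val (MulAction.mem_stabilizer_iff.1 hi)
        rw [hsmul, ← hkb, ← map_mul, ← map_inv, ← map_mul] at e
        have e' := (QuotientGroup.eq_iff_div_mem).1 e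
        rw [div_eq_mul_inv] at e'
        simpa using e')
    have hkD : k ∈ D := by
      have hmem : x * k ∈ K ⊓ Subgroup.centralizer ({(a : L)} : Set L) :=
        ⟨K.mul_mem (hDK hx) hk, Subgroup.mem_centralizer_singleton_iff.2
          ((Subgroup.mem_centralizer_iff.1 hxc _ (Subgroup.mem_zpowers _)).symm)⟩
      rw [h.cent _ a.2 ha1] at hmem
      have := D.mul_mem (D.inv_mem hx) (hle hmem)
      rwa [inv_mul_cancel_left] at this
    exact hb (Subtype.ext (by rw [← hkb]; exact (QuotientGroup.eq_one_iff k).2 hkD))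
  have hcard : Nat.card N * Nat.card D = Nat.card K := by
    have h1 := Subgroup.relIndex_mul_relIndex ⊥ D K bot_le hDK
    rw [Subgroup.relIndex_bot_left, Subgroup.relIndex_bot_left] at h1
    have h2 : Nat.card N = D.relIndex K := by
      rw [Subgroup.relIndex, Subgroup.index]
      refine Nat.card_congr ?_
      have e1 := QuotientGroup.quotientKerEquivRange (π.comp K.subtype)
      have e2 : (π.comp K.subtype).ker = D.subgroupOf K := by
        ext z; simp [π, Subgroup.mem_subgroupOf]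
      have e3 : (π.comp K.subtype).range = N := by
        rw [MonoidHom.range_comp, Subgroup.range_subtype]
      exact (MulEquiv.subgroupCongr e3).toEquiv.symm.trans
        (e1.toEquiv.symm.trans (QuotientGroup.quotientMulEquivOfEq e2).toEquiv)
    rw [h2, mul_comm]; exact h1
  have hN1 : Nat.card N ≠ 1 := fun e => by
    rw [e, one_mul] at hcard
    have hKD : D = K := Subgroup.eq_of_le_of_card_ge hDK hcard.ge
    haveI : Nontrivial K := (Subgroup.nontrivial_iff_ne_bot K).2 fun hb =>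
      h.ne₂ (le_bot_iff.1 (h.le.trans hb.le))
    haveI := hsolv
    have hlt : ⁅K, K⁆ < K := by
      conv_lhs => rw [← K.range_subtype, MonoidHom.range_eq_map, ← Subgroup.map_commutator]
      conv_rhs => rw [← K.range_subtype, MonoidHom.range_eq_map]
      rw [Subgroup.map_subtype_lt_map_subtype]
      exact Group.IsSolvable.commutator_lt_top_of_nontrivial K
    exact hlt.ne hKD
  have hNodd : Odd (Nat.card N) := by
    refine hodd.of_dvd_nat (dvd_trans ?_ K.card_subgroup_dvd_card)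
    exact Dvd.intro _ hcard
  obtain ⟨c, hc⟩ := hdvd
  obtain ⟨e, he⟩ := hNodd
  obtain ⟨f, hf⟩ := hodd.of_dvd_nat A.card_subgroup_dvd_card
  have h2 : 2 * Nat.card A + 1 ≤ Nat.card N := by
    rcases Nat.lt_or_ge c 2 with hc2 | hc2
    · interval_cases c <;> omega
    · have := Nat.mul_le_mul_left (Nat.card A) hc2
      omega
  calc (2 * Nat.card A + 1) * Nat.card B ≤ Nat.card N * Nat.card D :=
        Nat.mul_le_mul h2 (Nat.le_of_dvd Nat.card_pos (Subgroup.card_dvd_of_le hle))
    _ = _ := hcard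

variable [Fintype G]

/-- `|V| ≥ 2 p + 1` for data `(A, V, B)` with `|A| = p` and `V ≠ 1`. -/
theorem card_U_bound (hodd : Odd (Nat.card G)) {S A V B : Subgroup G}
    (hP : Cfsg.IsTypePWith S A V B) (hV : V ≠ ⊥) : 2 * Nat.card A + 1 ≤ Nat.card V := by
  letI : MulAction ↥A ↥V :=
    MulAction.compHom ↥V (V.normalizerMonoidHom.comp (Subgroup.inclusion hP.U_normal))
  have hsmul : ∀ (a : A) (b : V), ((a • b : V) : G) = (a : G) * b * (a : G)⁻¹ := fun _ _ => rfl
  have hdvd : Nat.card A ∣ Nat.card V - 1 := by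
    refine ClassSizes.CopDiv.dvd_card_sub_one (H := A) (1 : V)
      (fun a => Subtype.ext (by rw [hsmul]; simp)) fun b hb => ?_
    suffices MulAction.stabilizer A b = ⊥ by rw [this, Subgroup.index_bot]
    rw [eq_bot_iff]
    intro a ha
    by_contra hne
    have ha1 : (a : G) ≠ 1 := fun e => hne (Subgroup.mem_bot.2 (Subtype.ext e))
    have e := congrArg Subtype.val (MulAction.mem_stabilizer_iff.1 ha)
    rw [hsmul, mul_inv_eq_iff_eq_mul] at e
    have hbB : (b : G) ∈ B := by
      rw [← hP.W₂_centralizer (a : G) a.2 ha1]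
      exact ⟨hP.U_compl.2.1 b.2, Subgroup.mem_centralizer_singleton_iff.2 e.symm⟩
    have hmem : (b : G) ∈ Cfsg.fittingHallOf S ⊓ V := ⟨(hP.W₂_le hbB).1, b.2⟩
    rw [hP.U_compl.2.2.1, Subgroup.mem_bot] at hmem
    exact hb (Subtype.ext hmem)
  have hV1 : Nat.card V ≠ 1 := fun e => hV (Subgroup.card_eq_one.1 e)
  obtain ⟨c, hc⟩ := hdvd
  obtain ⟨e, he⟩ := hodd.of_dvd_nat V.card_subgroup_dvd_card
  obtain ⟨f, hf⟩ := hodd.of_dvd_nat A.card_subgroup_dvd_card
  rcases Nat.lt_or_ge c 2 with hc2 | hc2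
  · interval_cases c <;> omega
  · have := Nat.mul_le_mul_left (Nat.card A) hc2
    omega

/-- The sets of the classes other than two given ones carry at most `x |G|` elements. -/
theorem cover_bound (h18 : Interface.PF8.Step_8_18 G) {M S W₁ U W₂ : Subgroup G} (hM : IsCoatom M)
    (hP : Cfsg.IsTypePWith M W₁ U W₂) {χ : G → ℂ}
    (hnorm : ∑ g : G, ‖χ g‖ ^ 2 = (Nat.card G : ℝ)) {x : ℝ}
    (hMw : 1 - x ≤ (Nat.card G : ℝ)⁻¹ * ∑ᶠ g ∈ Cfsg.tildeOf M (Cfsg.typeA1 M), ‖χ g‖ ^ 2)
    (hN : ∀ N : Subgroup G, IsCoatom N → (∀ g : G, N.map (MulAut.conj g).toMonoidHom ≠ M) →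
      (∀ g : G, N.map (MulAut.conj g).toMonoidHom ≠ S) →
      ((Cfsg.tildeOf N (Cfsg.typeA1 N)).ncard : ℝ) ≤
        ∑ᶠ g ∈ Cfsg.tildeOf N (Cfsg.typeA1 N), ‖χ g‖ ^ 2) :
    (Nat.card G : ℝ) ≤ 1 + (Cfsg.tildeOf M (Cfsg.typeA1 M)).ncard +
      (Cfsg.tildeOf S (Cfsg.typeA1 S)).ncard + (PF14.conjSet (cyclicSet G W₁ W₂)).ncard +
      x * Nat.card G := by
  set T : Subgroup G → Finset G := fun N => (Cfsg.tildeOf N (Cfsg.typeA1 N)).toFinset with hT
  set 𝒩 : Finset (Subgroup G) := Finset.univ.filter fun N => IsCoatom N ∧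
    (∀ g : G, N.map (MulAut.conj g).toMonoidHom ≠ M) ∧
    (∀ g : G, N.map (MulAut.conj g).toMonoidHom ≠ S) with h𝒩
  set F := 𝒩.image T with hF
  have hsum : ∀ N, ∑ᶠ g ∈ Cfsg.tildeOf N (Cfsg.typeA1 N), ‖χ g‖ ^ 2 = ∑ g ∈ T N, ‖χ g‖ ^ 2 :=
    fun N => finsum_mem_eq_toFinset_sum _ _
  have hpd : (F : Set (Finset G)).PairwiseDisjoint id := by
    intro s hs t ht hst
    simp only [hF, Finset.coe_image, Set.mem_image, Finset.mem_coe] at hs ht
    obtain ⟨N, hN', rfl⟩ := hs
    obtain ⟨N', hN'', rfl⟩ := ht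
    simp only [h𝒩, Finset.mem_filter, Finset.mem_univ, true_and] at hN' hN''
    have hnc : ∀ g : G, N'.map (MulAut.conj g).toMonoidHom ≠ N := fun g e => hst (by
      rw [hT]
      simp only [Set.toFinset_inj]
      rw [← e]
      exact tilde_conj N' g)
    have := h18.disjoint N N' hN'.1 hN''.1 hnc
    rw [Function.onFun, id, id, hT, Set.disjoint_toFinset, Set.disjoint_iff_inter_eq_empty]
    exact this
  set U0 := F.biUnion id with hU0
  have hU0sum : (U0.card : ℝ) ≤ ∑ g ∈ U0, ‖χ g‖ ^ 2 := by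
    rw [hU0, Finset.card_biUnion hpd, Finset.sum_biUnion hpd, Nat.cast_sum]
    refine Finset.sum_le_sum fun s hs => ?_
    obtain ⟨N, hN', rfl⟩ := Finset.mem_image.1 hs
    simp only [h𝒩, Finset.mem_filter, Finset.mem_univ, true_and] at hN'
    have := hN N hN'.1 hN'.2.1 hN'.2.2
    rwa [Set.ncard_eq_toFinset_card', hsum] at this
  have hdisj : Disjoint (T M) U0 := by
    rw [hU0, Finset.disjoint_biUnion_right]
    intro s hs
    obtain ⟨N, hN', rfl⟩ := Finset.mem_image.1 hs
    simp only [h𝒩, Finset.mem_filter, Finset.mem_univ, true_and] at hN'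
    rw [id, hT, Set.disjoint_toFinset, Set.disjoint_iff_inter_eq_empty]
    exact h18.disjoint M N hM hN'.1 hN'.2.1
  have hG0 : (0 : ℝ) < Nat.card G := by exact_mod_cast Nat.card_pos
  have hU0card : (U0.card : ℝ) ≤ x * Nat.card G := by
    have h1 : ∑ g ∈ T M, ‖χ g‖ ^ 2 + ∑ g ∈ U0, ‖χ g‖ ^ 2 ≤ (Nat.card G : ℝ) := by
      rw [← Finset.sum_union hdisj, ← hnorm]
      exact Finset.sum_le_sum_of_subset_of_nonneg (Finset.subset_univ _) fun _ _ _ => sq_nonneg _
    rw [hsum, inv_mul_eq_div, le_div_iff₀ hG0] at hMw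
    linarith
  have hcov : (Finset.univ : Finset G) ⊆ {1} ∪ T M ∪ T S ∪
      (PF14.conjSet (cyclicSet G W₁ W₂)).toFinset ∪ U0 := by
    intro g _
    simp only [Finset.mem_union, Finset.mem_singleton]
    by_cases hg : g = 1
    · exact Or.inl (Or.inl (Or.inl (Or.inl hg)))
    rcases (h18.cover_typeP M W₁ U W₂ hM hP).1 g hg with ⟨N, hN', hgN⟩ | ⟨y, z, hz, rfl⟩
    · by_cases h1 : ∃ t : G, N.map (MulAut.conj t).toMonoidHom = M
      · obtain ⟨t, rfl⟩ := h1
        refine Or.inl (Or.inl (Or.inl (Or.inr ?_)))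
        rw [hT]
        simp only [Set.mem_toFinset]
        have e := tilde_conj N t
        rwa [e]
      by_cases h2 : ∃ t : G, N.map (MulAut.conj t).toMonoidHom = S
      · obtain ⟨t, rfl⟩ := h2
        refine Or.inl (Or.inl (Or.inr ?_))
        rw [hT]
        simp only [Set.mem_toFinset]
        have e := tilde_conj N t
        rwa [e]
      push Not at h1 h2
      refine Or.inr (Finset.mem_biUnion.2 ⟨T N, Finset.mem_image.2 ⟨N, ?_, rfl⟩, ?_⟩)
      · simp only [h𝒩, Finset.mem_filter, Finset.mem_univ, true_and]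
        exact ⟨hN', h1, h2⟩
      · simpa [hT] using hgN
    · refine Or.inl (Or.inr ?_)
      simp only [Set.mem_toFinset]
      exact ⟨y, z, hz, rfl⟩
  have hc := (Finset.card_le_card hcov).trans ((Finset.card_union_le _ _).trans (Nat.add_le_add_right
    ((Finset.card_union_le _ _).trans (Nat.add_le_add_right ((Finset.card_union_le _ _).trans
      (Nat.add_le_add_right (Finset.card_union_le _ _) _)) _)) _))
  rw [Finset.card_univ, Fintype.card_eq_nat_card, Finset.card_singleton] at hc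
  have hc' : (Nat.card G : ℝ) ≤ ((1 + (T M).card + (T S).card +
      (PF14.conjSet (cyclicSet G W₁ W₂)).toFinset.card + U0.card : ℕ) : ℝ) := by exact_mod_cast hc
  simp only [hT, ← Set.ncard_eq_toFinset_card'] at hc'
  push_cast at hc'
  linarith

end Cfsg.Agent.Lib.OddOrder.PF10.Cover
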