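import Cfsg.Agent.Lib.OddOrder.PF10.Values
import Cfsg.Agent.Lib.OddOrder.PF10.Bridge
import Cfsg.Agent.Lib.OddOrder.PF10.Cover
import Cfsg.Agent.Lib.OddOrder.PF8.Supports
import Cfsg.Agent.Lib.OddOrder.PF14.Count
import Cfsg.Agent.Lib.OddOrder.PrimeDade.TypeP
import Cfsg.Agent.Lib.OddOrder.Interface.PF10

/-!
# Peterfalvi (10.8): `S(1)` is not coherent for the types III, IV and V

`key_false`: for the types III, IV, V no `ζ`, `χ` satisfy `Key`; `step_10_8` adds `Bridge`.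
-/

set_option autoImplicit false
set_option linter.style.haveILetI false
set_option linter.unusedSectionVars false

namespace Cfsg.Agent.Lib.OddOrder.PF10.Noncoherent

open scoped Classical commutatorElement
open Cfsg.Agent.Lib
open Cfsg.Agent.Lib.OddOrder.Interface.PF11 (derivedIn tau)
open Cfsg.Agent.Lib.OddOrder.Interface.PF8 (BG16 Step_8_18 cyclicSet)
open Cfsg.Agent.Lib.OddOrder.PF11.Chars (rows)

universe u

variable {G : Type u} [Group G] [Fintype G]

/-- The setting of §10 for a maximal subgroup of type P with `M_s = M'`. -/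
theorem exists_ctx (hG : Cfsg.IsMinSimpleOddOrder G) (hB : BG16 G) {M W₁ U W₂ : Subgroup G}
    (hM : IsCoatom M) (hP : Cfsg.IsTypePWith M W₁ U W₂)
    (hcore : Cfsg.typeCore M = ⁅M, M⁆) : ∃ H : Subgroup ↥M, Ctx M H W₁ W₂ := by
  refine ⟨_, PrimeDade.Instance.hyp hG hB hM hP, fun x hx hx1 =>
    PrimeDade.Instance.derived_subset_typeA0 hP hcore hx (fun e => hx1 (Subtype.ext e)), ?_⟩
  refine (Subgroup.map_le_map_iff_of_injective M.subtype_injective).1 ?_
  rw [Subgroup.map_commutator, Subgroup.subgroupOf_map_subtype, Subgroup.subgroupOf_map_subtype,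
    inf_eq_left.2 (TypeP.derived_le M)]
  exact (inf_le_left).trans (hP.W₂_le.trans inf_le_right)

/-- The final arithmetic. -/
theorem arith {g aM aS aW k h v p q : ℝ} (hg : 0 < g) (hq : 3 ≤ q) (hp : 3 ≤ p)
    (hv : 7 ≤ v) (hk : (2 * q + 1) * p ≤ k) (hh : 1 ≤ h)
    (hM : aM * (k * q) = (k - 1) * g) (hS : aS * (h * v * p) = (h - 1) * g)
    (hW : aW * (p * q) ≤ (p - 1) * (q - 1) * g) (hgk : k * q ≤ g)
    (hcov : g ≤ 1 + aM + aS + aW + q / (k - 1) * g) : False := by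
  have hp0 : 0 < p := by linarith
  have hq0 : 0 < q := by linarith
  have hv0 : 0 < v := by linarith
  have hh0 : 0 < h := by linarith
  have h2 : 2 * p * q + p - 1 ≤ k - 1 := by linarith [show (2 * q + 1) * p = 2 * p * q + p by ring]
  have hpq : 0 < p * q := mul_pos hp0 hq0
  have hk1 : 0 < k - 1 := by linarith
  have hkq : 0 < k * q := mul_pos (by linarith) hq0
  have eM : 1 + aM ≤ g / q := by
    rw [le_div_iff₀ hq0]
    refine le_of_mul_le_mul_left ?_ (show (0 : ℝ) < k by linarith)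
    nlinarith
  have eS : aS ≤ g / (v * p) := by
    rw [le_div_iff₀ (mul_pos hv0 hp0)]
    refine le_of_mul_le_mul_left ?_ hh0
    nlinarith
  have eW : aW ≤ (p - 1) * (q - 1) * g / (p * q) := by rw [le_div_iff₀ hpq]; exact hW
  have hmain : g ≤ g * (1 / q + 1 / (v * p) + (p - 1) * (q - 1) / (p * q) + q / (k - 1)) := by
    have e : g * (1 / q + 1 / (v * p) + (p - 1) * (q - 1) / (p * q) + q / (k - 1)) =
        g / q + g / (v * p) + (p - 1) * (q - 1) * g / (p * q) + q / (k - 1) * g := by ring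
    rw [e]
    linarith
  have h3 : 1 ≤ 1 / q + 1 / (v * p) + (p - 1) * (q - 1) / (p * q) + q / (k - 1) :=
    le_of_mul_le_mul_left (by rwa [mul_one]) hg
  have h4 : (v * q - q - v) / (v * p * q) ≤ q / (k - 1) := by
    have e : 1 - (1 / q + 1 / (v * p) + (p - 1) * (q - 1) / (p * q)) =
        (v * q - q - v) / (v * p * q) := by
      field_simp
      ring
    linarith
  rw [div_le_div_iff₀ (mul_pos (mul_pos hv0 hp0) hq0) hk1] at h4
  have h5 : 0 < v * q - q - v := by nlinarith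
  have h6 : 0 ≤ v * q - 2 * q - 2 * v := by nlinarith
  nlinarith [mul_le_mul_of_nonneg_left h2 h5.le, mul_nonneg hpq.le h6,
    mul_pos h5 (show 0 < p - 1 by linarith)]

/-- (10.7) and the conclusion: `Key` is impossible for the types III, IV, V. -/
theorem key_false (hG : Cfsg.IsMinSimpleOddOrder G) (hB : BG16 G) (h18 : Step_8_18 G)
    (hpart : Interface.PF10.Partner G) {M W₁ U W₂ : Subgroup G} [Fintype ↥M] (hM : IsCoatom M)
    (hP : Cfsg.IsTypePWith M W₁ U W₂)
    (h3 : Cfsg.IsOfTypeIII M ∨ Cfsg.IsOfTypeIV M ∨ Cfsg.IsOfTypeV M)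
    {ζ : ↥M → ℂ} {χ : G → ℂ} (k : Key M W₁ W₂ ζ χ) : False := by
  have h85 := PF8.TypeP.step_8_5 (G := G)
  obtain ⟨hnII, hcore⟩ : ¬ Cfsg.IsOfTypeII M ∧ Cfsg.typeCore M = ⁅M, M⁆ := by
    rcases h3 with h | h | h
    · obtain ⟨-, -, -, -, -, h1, -, -, h2⟩ := h85.typeIII M hM W₁ U W₂ hP h; exact ⟨h1, h2⟩
    · obtain ⟨-, -, -, -, -, h1, -, -, h2⟩ := h85.typeIV M hM W₁ U W₂ hP h; exact ⟨h1, h2⟩
    · obtain ⟨-, h1, -, -, -, h2⟩ := h85.typeV M hM W₁ U W₂ hP h; exact ⟨h1, h2⟩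
  obtain ⟨H, c⟩ := exists_ctx hG hB hM hP hcore
  obtain ⟨S, V, hS, hSP, hnc, hII, -⟩ := hpart M W₁ U W₂ hM hP
  have hSII := hII.resolve_left hnII
  obtain ⟨hV, -, -, -, -, -, -, -, -, -, hScore⟩ := h85.typeII S hS W₂ V W₁ hSP hSII
  obtain ⟨η, hη⟩ := CyclicTI.exists_family (G := G) c.hyp.selfNormalizing c.hyp.odd_W
  have hW₁S : W₁ ≤ Cfsg.typeCore S := by
    rw [hScore]; exact hSP.W₂_le.trans inf_le_left
  -- the family carries `χ` on the other classes
  have hoff : ∀ N : Subgroup G, IsCoatom N → (∀ g : G, N.map (MulAut.conj g).toMonoidHom ≠ M) →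
      ∀ g ∈ Cfsg.tildeOf N (Cfsg.typeA1 N), χ g = ∑ φ ∈ rows W₁ W₂, η φ g := by
    intro N hN hNM g hg
    have hout : g ∉ Isometry.Dade.support (TypeOne.typeA0 M) (Cfsg.supportR M) := by
      rw [PF12.Avg.support_eq]
      rintro ⟨a, ha, r, hr, y, rfl⟩
      have ha' := ha
      rw [PF8.TypeP.typeA0_eq hP] at ha'
      rcases ha' with hA | ⟨m, hm, w, hw, rfl⟩
      · have hA1 : a ∈ Cfsg.typeA1 M := by
          rw [TypeOne.typeA, if_neg (PF8.TypeP.not_typeI ⟨_, _, _, hP⟩)] at hA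
          exact ⟨hcore ▸ hA.1, hA.2.1⟩
        have hmem : y * (a * r) * y⁻¹ ∈
            Cfsg.tildeOf M (Cfsg.typeA1 M) ∩ Cfsg.tildeOf N (Cfsg.typeA1 N) :=
          ⟨⟨a, hA1, r, hr, y, rfl⟩, hg⟩
        rw [h18.disjoint M N hM hN hNM] at hmem
        exact hmem
      · have hle : Subgroup.centralizer ({m * w * m⁻¹} : Set G) ≤ M := by
          by_contra hn
          obtain ⟨h1, -⟩ := (hB.embed M hM _ (Or.inr rfl)).2.1 _ ha hn
          have h1' : m * w * m⁻¹ ∈ ⁅M, M⁆ := hcore ▸ h1.1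
          have hwM : w ∈ M := c.W_le hw.1
          refine c.V_not_K ⟨w, hw.1⟩ hw.2.2 hwM ?_
          haveI := c.hyp.K_normal
          have h2 : (⟨m, hm⟩ * ⟨w, hwM⟩ * (⟨m, hm⟩ : ↥M)⁻¹) ∈ derivedIn M := h1'
          have h3 := c.hyp.K_normal.conj_mem _ h2 (⟨m, hm⟩ : ↥M)⁻¹
          have e : (⟨w, hwM⟩ : ↥M) = (⟨m, hm⟩ : ↥M)⁻¹ * (⟨m, hm⟩ * ⟨w, hwM⟩ * (⟨m, hm⟩ : ↥M)⁻¹) *
              ((⟨m, hm⟩ : ↥M)⁻¹)⁻¹ := by group
          rw [e]
          exact h3
        rw [PF8.Dade.supportR_eq_bot hle, Subgroup.mem_bot] at hr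
        subst hr
        refine (h18.cover_typeP M W₁ U W₂ hM hP).2 N hN (y * m) w hw ?_
        convert hg using 1
        group
    have h0 : tau M (gammaF ζ) g = 0 := Isometry.Dade.dadeIsometry_eq_zero hout
    rw [Values.tau_gamma c hη k, Pi.sub_apply, Finset.sum_apply, sub_eq_zero] at h0
    exact h0.symm
  -- each of those classes has weight at least its size
  have hNw : ∀ N : Subgroup G, IsCoatom N → (∀ g : G, N.map (MulAut.conj g).toMonoidHom ≠ M) →
      (∀ g : G, N.map (MulAut.conj g).toMonoidHom ≠ S) →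
      ((Cfsg.tildeOf N (Cfsg.typeA1 N)).ncard : ℝ) ≤
        ∑ᶠ g ∈ Cfsg.tildeOf N (Cfsg.typeA1 N), ‖χ g‖ ^ 2 := by
    intro N hN hNM hNS
    haveI : Fintype ↥N := Fintype.ofFinite _
    have hD := (PF8.Dade.step_8_15 hG hB N hN _ (Or.inl rfl)).2
    have hone : ∀ a : ↥N, (a : G) ∈ Cfsg.typeA1 N → 1 ≤ ‖MSide.meanFun N χ a‖ := by
      intro a ha
      have hc : ∀ u ∈ Cfsg.supportR N (a : G), (a : G) * u = u * a := fun u hu =>
        (Subgroup.mem_centralizer_singleton_iff.1 (hD.le_centralizer _ ha hu)).symm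
      have hval : ∀ u : ↥(Cfsg.supportR N (a : G)),
          χ ((a : G) * u) = (∑ φ ∈ rows W₁ W₂, η φ) ((a : G) * u) := fun u => by
        rw [Finset.sum_apply]
        exact hoff N hN hNM _ ⟨a, ha, u, u.2, 1, by simp⟩
      have e : MSide.meanFun N χ a =
          ∑ φ ∈ rows W₁ W₂, Mean.mean (η φ) (Cfsg.supportR N (a : G)) a := by
        rw [← Mean.mean_sum, MSide.meanFun, Mean.mean, Mean.mean,
          Finset.sum_congr rfl fun u _ => hval u]
      rw [e]
      refine Mean.one_le_norm_sum c.hyp.selfNormalizing c.hyp.odd_W hη hc ?_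
      exact ((h18.core_coprime N S hN hS (PF8.Supports.nc_symm hNS)).coprime_dvd_left
        (Subgroup.orderOf_dvd_natCard _ ha.1)).coprime_dvd_right (Subgroup.card_dvd_of_le hW₁S)
    have h25 := Cfsg.Agent.S1525.result (Cfsg.typeA1 N) N (Cfsg.supportR N) hD χ
      (Isometry.Inner.gen_classFun (Isometry.Inner.gen_of_signed k.signed)) (MSide.meanFun N χ)
      fun a _ => MSide.mean_eq_finsum χ _ a
    have hset : {g : G | ∃ a ∈ Cfsg.typeA1 N, ∃ u ∈ Cfsg.supportR N a, ∃ x : G,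
        x * g * x⁻¹ = a * u} = Cfsg.tildeOf N (Cfsg.typeA1 N) := PF12.Avg.support_eq N _
    rw [hset] at h25
    have hleN := PF8.Dade.typeCore_le N
    have hcnt : ({a : ↥N | (a : G) ∈ Cfsg.typeA1 N}.ncard : ℝ) =
        (Nat.card (Cfsg.typeCore N) : ℝ) - 1 := by
      have himg : (Subtype.val : ↥N → G) '' {a : ↥N | (a : G) ∈ Cfsg.typeA1 N} =
          (Cfsg.typeCore N : Set G) \ {1} := by
        ext z
        refine ⟨?_, fun hz => ⟨⟨z, hleN hz.1⟩, hz, rfl⟩⟩
        rintro ⟨w, hw, rfl⟩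
        exact hw
      rw [← Set.ncard_image_of_injective _ Subtype.val_injective, himg]
      have := Set.ncard_sdiff_singleton_add_one (one_mem (Cfsg.typeCore N))
        (Set.toFinite (Cfsg.typeCore N : Set G))
      rw [← Nat.card_coe_set_eq (Cfsg.typeCore N : Set G), SetLike.coe_sort_coe] at this
      rw [← this]
      push_cast
      ring
    have hlow : ({a : ↥N | (a : G) ∈ Cfsg.typeA1 N}.ncard : ℝ) ≤
        ∑ᶠ a ∈ {a : ↥N | (a : G) ∈ Cfsg.typeA1 N}, ‖MSide.meanFun N χ a‖ ^ 2 := by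
      rw [finsum_mem_eq_toFinset_sum, Set.ncard_eq_toFinset_card', Finset.cast_card]
      refine Finset.sum_le_sum fun a ha => ?_
      exact one_le_pow₀ (hone a (by simpa using ha))
    rw [hcnt] at hlow
    have h1 : ((Cfsg.tildeOf N (Cfsg.typeA1 N)).ncard : ℝ) =
        ((Nat.card (Cfsg.typeCore N) : ℝ) - 1) * (N.index : ℝ) := by
      rw [h18.count N hN, Nat.cast_mul, Nat.cast_sub Nat.card_pos, Nat.cast_one]
    have h2 : (Nat.card G : ℝ) = (Nat.card ↥N : ℝ) * (N.index : ℝ) := by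
      exact_mod_cast N.card_mul_index.symm
    have hN0 : (0 : ℝ) < Nat.card ↥N := by exact_mod_cast Nat.card_pos
    have hG0 : (0 : ℝ) < Nat.card G := by exact_mod_cast Nat.card_pos
    have h4 := (mul_le_mul_of_nonneg_left hlow (inv_nonneg.2 hN0.le)).trans h25
    rw [inv_mul_eq_div, inv_mul_eq_div, div_le_div_iff₀ hN0 hG0] at h4
    rw [h1]
    refine le_of_mul_le_mul_right ?_ hN0
    calc ((Nat.card (Cfsg.typeCore N) : ℝ) - 1) * (N.index : ℝ) * (Nat.card ↥N : ℝ)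
        = ((Nat.card (Cfsg.typeCore N) : ℝ) - 1) * (Nat.card G : ℝ) := by rw [h2]; ring
      _ ≤ _ := h4
  -- orders
  have hKle : ⁅M, M⁆ ≤ M := TypeP.derived_le M
  have hKcard : Nat.card (derivedIn M) = Nat.card (⁅M, M⁆ : Subgroup G) :=
    Nat.card_congr (Subgroup.subgroupOfEquivOfLe hKle).toEquiv
  haveI := c.hyp.K_normal
  have hsolv : Group.IsSolvable ↥(derivedIn M) := by
    haveI := MinSimple.solvable_of_ne_top hG hM.1
    infer_instance
  have hkb := Cover.card_kernel_bound c.hyp.plike c.hyp.odd hsolv c.le_two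
  rw [c.card₁, c.card₂] at hkb
  have hvb := Cover.card_U_bound hG.1 hSP hV
  have hq3 := c.three_le_q
  have hp3 := c.three_le_p
  have hqK : Nat.card W₁ + 1 < Nat.card (derivedIn M) := by nlinarith
  have hMw := MSide.weight c k hcore (PF8.Dade.step_8_15 hG hB M hM _ (Or.inl rfl)).2 hqK
  have hnorm : ∑ g : G, ‖χ g‖ ^ 2 = (Nat.card G : ℝ) := by
    have h := Isometry.Inner.classInner_self_signed k.signed
    rw [Cfsg.classInner, inv_mul_eq_one₀ (Nat.cast_ne_zero.2 Nat.card_pos.ne')] at h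
    have e : ((∑ g : G, ‖χ g‖ ^ 2 : ℝ) : ℂ) = ((Nat.card G : ℝ) : ℂ) := by
      rw [Complex.ofReal_sum]
      simp only [Complex.ofReal_pow, ← Complex.mul_conj', Complex.ofReal_natCast]
      exact h.symm
    exact_mod_cast e
  have hcov := Cover.cover_bound h18 hM hP hnorm hMw hNw
  rw [h18.count M hM, h18.count S hS, hcore, hScore] at hcov
  -- the cyclic set
  have hW := c.hyp.selfNormalizing
  have hWle : (PF14.conjSet (cyclicSet G W₁ W₂)).ncard ≤
      (W₁ ⊔ W₂).index * (cyclicSet G W₁ W₂).ncard := by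
    haveI : IsCyclic ↥(W₁ ⊔ W₂) := hW.2.2.2.2.1
    exact PF14.ncard_conjSet_le (fun a ha b hb => congrArg Subtype.val
      ((IsCyclic.commGroup (α := ↥(W₁ ⊔ W₂))).mul_comm ⟨a, ha⟩ ⟨b, hb⟩)) fun z hz => hz.1
  have hWcard := PF14.ncard_cyclicSet hW
  have hWmul := (W₁ ⊔ W₂).card_mul_index
  rw [PF14.card_W hW] at hWcard hWmul
  have hMmul := M.card_mul_index
  rw [← Basic.isComplIn_card hP.W₁_compl, ← hKcard] at hMmul
  have hSmul := S.card_mul_index
  rw [← Basic.isComplIn_card hSP.W₁_compl, ← Basic.isComplIn_card hSP.U_compl] at hSmul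
  set g := (Nat.card G : ℝ) with hg
  set q := (Nat.card W₁ : ℝ) with hq
  set p := (Nat.card W₂ : ℝ) with hp
  set kk := (Nat.card (derivedIn M) : ℝ) with hkk
  set v := (Nat.card V : ℝ) with hv
  set h := (Nat.card (Cfsg.fittingHallOf S) : ℝ) with hh
  rw [← hKcard] at hcov
  push_cast [Nat.cast_sub (Nat.card_pos (α := ↥(derivedIn M))),
    Nat.cast_sub (Nat.card_pos (α := ↥(Cfsg.fittingHallOf S)))] at hcov
  have hMmul' : kk * q * (M.index : ℝ) = g := by rw [hkk, hq, hg]; exact_mod_cast hMmul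
  have hSmul' : h * v * p * (S.index : ℝ) = g := by rw [hh, hv, hp, hg]; exact_mod_cast hSmul
  have hWmul' : q * p * ((W₁ ⊔ W₂).index : ℝ) = g := by rw [hq, hp, hg]; exact_mod_cast hWmul
  refine arith (g := g) (aM := (kk - 1) * (M.index : ℝ)) (aS := (h - 1) * (S.index : ℝ))
    (aW := ((PF14.conjSet (cyclicSet G W₁ W₂)).ncard : ℝ)) (k := kk) (h := h) (v := v) (p := p)
    (q := q) ?_ ?_ ?_ ?_ ?_ ?_ ?_ ?_ ?_ ?_ hcov
  · rw [hg]; exact_mod_cast Nat.card_pos
  · rw [hq]; exact_mod_cast hq3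
  · rw [hp]; exact_mod_cast hp3
  · rw [hv]; exact_mod_cast (show 7 ≤ Nat.card V by omega)
  · rw [hq, hp, hkk]; exact_mod_cast hkb
  · rw [hh]; exact_mod_cast (Nat.card_pos : 0 < Nat.card (Cfsg.fittingHallOf S))
  · linear_combination (kk - 1) * hMmul'
  · linear_combination (h - 1) * hSmul'
  · have h1 : ((PF14.conjSet (cyclicSet G W₁ W₂)).ncard : ℝ) ≤
        ((W₁ ⊔ W₂).index : ℝ) * ((cyclicSet G W₁ W₂).ncard : ℝ) := by exact_mod_cast hWle
    have h2 : ((cyclicSet G W₁ W₂).ncard : ℝ) = (p - 1) * (q - 1) := by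
      have e : ((cyclicSet G W₁ W₂).ncard : ℝ) + q + p = q * p + 1 := by
        rw [hq, hp]; exact_mod_cast hWcard
      linear_combination e
    rw [h2] at h1
    refine (mul_le_mul_of_nonneg_right h1 (by positivity)).trans (le_of_eq ?_)
    linear_combination (p - 1) * (q - 1) * hWmul'
  · rw [← hMmul']
    refine le_mul_of_one_le_right (by positivity) ?_
    exact_mod_cast Nat.one_le_iff_ne_zero.2 M.index_ne_zero_of_finite

/-- Peterfalvi (10.8). -/
theorem step_10_8 (hG : Cfsg.IsMinSimpleOddOrder G) (hB : BG16 G) (h18 : Step_8_18 G)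
    (hpart : Interface.PF10.Partner G) : Interface.PF10.Step_10_8 G := by
  intro M W₁ U W₂ _ hM hP h3 hcoh
  have hcore : Cfsg.typeCore M = ⁅M, M⁆ := by
    rcases h3 with h | h | h
    · exact ((PF8.TypeP.step_8_5 (G := G)).typeIII M hM W₁ U W₂ hP h).2.2.2.2.2.2.2.2
    · exact ((PF8.TypeP.step_8_5 (G := G)).typeIV M hM W₁ U W₂ hP h).2.2.2.2.2.2.2.2
    · exact ((PF8.TypeP.step_8_5 (G := G)).typeV M hM W₁ U W₂ hP h).2.2.2.2.2
  obtain ⟨H, c⟩ := exists_ctx hG hB hM hP hcore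
  have hsolv : Group.IsSolvable ↥(derivedIn M) := by
    haveI := MinSimple.solvable_of_ne_top hG hM.1
    infer_instance
  obtain ⟨ζ, χ, k⟩ := Bridge.exists_key c hsolv hcoh
  exact key_false hG hB h18 hpart hM hP h3 k

end Cfsg.Agent.Lib.OddOrder.PF10.Noncoherent
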