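import Cfsg.Agent.Lib.OddOrder.Interface.PF10
import Cfsg.Agent.Lib.OddOrder.Final
import Cfsg.Agent.Lib.OddOrder.PF9.Package
import Cfsg.Agent.Lib.OddOrder.PF9.Setup

/-!
# Peterfalvi §10: the partner of a subgroup of type P; (10.10), (10.11) from (10.8)
-/

set_option autoImplicit false
set_option linter.style.haveILetI false
set_option linter.unusedSectionVars false

namespace Cfsg.Agent.Lib.OddOrder.PF10

open Cfsg.Agent.Lib.OddOrder.PF8.TypeP (isOfTypeP_of data_conj II_facts im_conj_mul)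
open Cfsg.Agent.Lib.OddOrder.PF8.Conj (im)
open Cfsg.Agent.Lib.OddOrder.Interface
open scoped commutatorElement

universe u

variable {G : Type u} [Group G] [Finite G]

theorem card_ne_card {M W₁ U W₂ : Subgroup G} (hP : Cfsg.IsTypePWith M W₁ U W₂) :
    Nat.card W₁ ≠ Nat.card W₂ :=
  CyclicTI.card_ne_card hP.selfNormalizing

theorem partner_aux {M S T W₁ U W₂ A B C V : Subgroup G} (hP : Cfsg.IsTypePWith M W₁ U W₂)
    (hT : IsCoatom T) (hSP : Cfsg.IsTypePWith S A B C) (hTP : Cfsg.IsTypePWith T C V A)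
    (hII : Cfsg.IsOfTypeII S ∨ Cfsg.IsOfTypeII T)
    (hT25 : Cfsg.IsOfTypeII T ∨ Cfsg.IsOfTypeIII T ∨ Cfsg.IsOfTypeIV T ∨ Cfsg.IsOfTypeV T)
    {g : G} (hM : M = im (MulAut.conj g) S) :
    ∃ S' V' : Subgroup G, IsCoatom S' ∧ Cfsg.IsTypePWith S' W₂ V' W₁ ∧
      (∀ x : G, S'.map (MulAut.conj x).toMonoidHom ≠ M) ∧
      (Cfsg.IsOfTypeII M ∨ Cfsg.IsOfTypeII S') ∧
      (Cfsg.IsOfTypeII S' ∨ Cfsg.IsOfTypeIII S' ∨ Cfsg.IsOfTypeIV S' ∨ Cfsg.IsOfTypeV S') := by
  have hSg := PF8.Conj.isTypePWith_im (MulAut.conj g) hSP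
  rw [← hM] at hSg
  obtain ⟨m, -, e1, -, e3⟩ := data_conj hSg hP
  have e1' : W₁ = im (MulAut.conj (m * g)) A := e1.trans (im_conj_mul m g A)
  have e3' : W₂ = im (MulAut.conj (m * g)) C := e3.trans (im_conj_mul m g C)
  have hT' := PF8.Conj.isTypePWith_im (MulAut.conj (m * g)) hTP
  rw [← e1', ← e3'] at hT'
  refine ⟨_, _, PF8.Conj.im_isCoatom _ hT, hT', fun x hx => ?_, ?_, ?_⟩
  · have h1 := PF8.Conj.isTypePWith_im (MulAut.conj x) hT'
    rw [show im (MulAut.conj x) (im (MulAut.conj (m * g)) T) = M from hx] at h1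
    obtain ⟨y, -, e, -, -⟩ := data_conj hP h1
    refine card_ne_card hP ?_
    have h2 := congrArg (fun X : Subgroup G => Nat.card X) e
    have h3 : Nat.card (im (MulAut.conj x) W₂) = Nat.card (im (MulAut.conj y) W₁) := h2
    rw [PF8.Conj.im_card, PF8.Conj.im_card] at h3
    exact h3.symm
  · rcases hII with h | h
    · exact Or.inl (hM ▸ PF8.Conj.isOfTypeII_im _ h)
    · exact Or.inr (PF8.Conj.isOfTypeII_im _ h)
  · rcases hT25 with h | h | h | h
    · exact Or.inl (PF8.Conj.isOfTypeII_im _ h)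
    · exact Or.inr (Or.inl (PF8.Conj.isOfTypeIII_im _ h))
    · exact Or.inr (Or.inr (Or.inl (PF8.Conj.isOfTypeIV_im _ h)))
    · exact Or.inr (Or.inr (Or.inr (PF8.Conj.isOfTypeV_im _ h)))

/-- Every subgroup of type P has a partner. -/
theorem partner (hS : Final.StructureStmt G) : PF10.Partner G := by
  intro M W₁ U W₂ hM hP
  have hnI := PF8.TypeP.not_typeI (M := M) ⟨_, _, _, hP⟩
  rcases hS with h | ⟨A, C, S, T, hW, hS, hT, hSc, hTc, hST, hII, hS25, hT25, hconj⟩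
  · exact absurd (h M hM) hnI
  obtain ⟨B, hSP⟩ := Final.exists_typePWith (isOfTypeP_of hS25) hSc hW
    (le_sup_right.trans (hST.ge.trans inf_le_left))
  obtain ⟨V, hTP⟩ := Final.exists_typePWith (isOfTypeP_of hT25) hTc (Final.sup_comm_data hW)
    (le_sup_left.trans (hST.ge.trans inf_le_right))
  rcases hconj M hM with h | ⟨g, h | h⟩
  · exact absurd h hnI
  · exact partner_aux hP hT hSP hTP hII hT25 h
  · exact partner_aux hP hS hTP hSP hII.symm hS25 h

/-- (10.10) from (10.8) and the coherence for type V. -/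
theorem noTypeV [Fintype G] (h8 : PF10.Step_10_8 G) (hV : PF10.TypeVCoherent G) :
    PF12.NoTypeV G := fun M hM h => by
  classical
  obtain ⟨W₁, U, W₂, hP⟩ := isOfTypeP_of (Or.inr (Or.inr (Or.inr h)))
  exact h8 M W₁ U W₂ hM hP (Or.inr (Or.inr h)) (hV M W₁ U W₂ hM hP h)

/-- Without type V the order of `W₂` is prime. -/
theorem W₂_prime (hp : PF10.Partner G) (hV : PF12.NoTypeV G) {M W₁ U W₂ : Subgroup G}
    (hM : IsCoatom M) (hP : Cfsg.IsTypePWith M W₁ U W₂) : (Nat.card W₂).Prime := by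
  obtain ⟨S, V, hS, hSP, -, -, h⟩ := hp M W₁ U W₂ hM hP
  rcases h with h | h | h | h
  · exact (II_facts hSP h).2.1
  · exact (PF8.TypeP.III_facts hSP h).2.1
  · exact (PF8.TypeP.IV_facts hSP h).2.1
  · exact absurd h (hV S hS)

/-- For every type P subgroup which is not of type II the partner is of type II, so `|W₂|` is prime. -/
theorem W₂_prime_of_not_II (hp : PF10.Partner G) {M W₁ U W₂ : Subgroup G}
    (hM : IsCoatom M) (hP : Cfsg.IsTypePWith M W₁ U W₂) (h : ¬ Cfsg.IsOfTypeII M) :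
    (Nat.card W₂).Prime := by
  obtain ⟨S, V, -, hSP, -, hII, -⟩ := hp M W₁ U W₂ hM hP
  exact (II_facts hSP (hII.resolve_left h)).2.1

/-- (10.11), the type II part. -/
theorem step_10_11 (hG : Cfsg.IsMinSimpleOddOrder G) (hp : PF10.Partner G)
    (hV : PF12.NoTypeV G) : PF13Needs.Step_10_11 G := by
  intro M W₁ U W₂ hM hP hII
  have hprime := W₂_prime hp hV hM hP
  obtain ⟨hU, hq, -, -, -, hF, hFH⟩ := II_facts hP hII
  obtain ⟨hy, hcent⟩ := PF9.Setup.step_9_1 hG M W₁ U W₂ hM hP hU hq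
  have hCU := hcent hF hFH
  obtain ⟨⟨-, hC, -⟩, ⟨H₀, hk⟩, hpack⟩ := PF9.package hy
  obtain ⟨p, C, -, -, -, h6, hpW, -⟩ := hpack H₀ hk
  have hHM := Basic.fittingHallOf_le M
  have hW₂M : W₂ ≤ M := (hP.W₂_le.trans inf_le_left).trans hHM
  have hW₁M : W₁ ≤ M := hP.W₁_compl.2.1
  have hcardW₂ := PF9.Setup.card_subgroupOf hW₂M
  have hcardW₁ := PF9.Setup.card_subgroupOf hW₁M
  have hp' : p = Nat.card W₂ := (hpW (by rw [hcardW₂]; exact hprime)).trans hcardW₂
  -- `C_H(U) = 1`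
  have hfix : Cfsg.fittingHall ↥M ⊓ Subgroup.centralizer ((U.subgroupOf M : Subgroup M) : Set M) = ⊥ := by
    rw [eq_bot_iff]
    rintro x ⟨hx, hc⟩
    have : (x : G) ∈ Cfsg.fittingHallOf M ⊓ Subgroup.centralizer (U : Set G) := by
      refine ⟨⟨x, hx, rfl⟩, Subgroup.mem_centralizer_iff.2 fun a ha => ?_⟩
      have haM : a ∈ M := Cfsg.Agent.Lib.OddOrder.TypeP.U_le hP ha
      exact congrArg Subtype.val (Subgroup.mem_centralizer_iff.1 hc ⟨a, haM⟩ ha)
    rw [hCU, Subgroup.mem_bot] at this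
    exact Subgroup.mem_bot.2 (Subtype.ext this)
  obtain ⟨h93, -, -⟩ := PF9.step_9_3 hy
  rw [hfix, hC (by rw [hcardW₂]; exact hprime), Subgroup.card_bot, one_pow, mul_one, one_mul,
    hcardW₂, hcardW₁] at h93
  have hH₀ : H₀ = ⊥ := by
    have h1 := Subgroup.relIndex_mul_relIndex ⊥ H₀ (Cfsg.fittingHall ↥M) bot_le hk.lt.le
    rw [Subgroup.relIndex_bot_left, Subgroup.relIndex_bot_left, h6.index_eq, hp', hcardW₁, h93] at h1
    exact Subgroup.card_eq_one.1 (Nat.eq_of_mul_eq_mul_right (pow_pos hprime.pos _) (h1.trans (one_mul _).symm))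
  refine ⟨hprime, ⟨⟨⟨fun a b => ?_⟩⟩, fun a ha => ?_⟩, ?_⟩
  · obtain ⟨x, hx, hxe⟩ := a.2
    obtain ⟨y, hy', hye⟩ := b.2
    have h1 := h6.comm_mem x hx y hy'
    rw [hH₀, Subgroup.mem_bot, commutatorElement_eq_one_iff_mul_comm] at h1
    apply Subtype.ext
    rw [Subgroup.coe_mul, Subgroup.coe_mul, ← hxe, ← hye, ← map_mul, ← map_mul, h1]
  · obtain ⟨x, hx, rfl⟩ := ha
    have h1 := h6.pow_mem x hx
    rw [hH₀, Subgroup.mem_bot, hp'] at h1
    rw [← map_pow, h1, map_one]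
  · rw [Cfsg.fittingHallOf, Subgroup.card_map_of_injective M.subtype_injective, h93]

end Cfsg.Agent.Lib.OddOrder.PF10
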