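import Cfsg.Agent.Lib.OddOrder.PF10.TypeVTI
import Cfsg.Agent.Lib.OddOrder.PF10.Residual.Keys
import Cfsg.Agent.Lib.OddOrder.PF10.Partner

/-!
# Peterfalvi (10.10), first half: for type V either `S(1)` is coherent or there is a `Key`

With `Key ⇒ False` (PF10/Noncoherent) this gives `TypeVCoherent`, and `NoTypeV` with (10.8).
-/

set_option autoImplicit false
set_option linter.style.haveILetI false

namespace Cfsg.Agent.Lib.OddOrder.PF10.TypeV

open scoped commutatorElement
open Cfsg.Agent.Lib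
open Cfsg.Agent.Lib.OddOrder.Interface
open Cfsg.Agent.Lib.OddOrder.Interface.PF11 (derivedIn tau)

universe u

variable {G : Type u} [Group G] [Fintype G] {M W₁ U W₂ : Subgroup G}

theorem Ctx.not_typeII (c : Ctx M W₁ U W₂) : ¬ Cfsg.IsOfTypeII M := fun h =>
  (PF8.TypeP.II_facts c.typeP h).1 (PF8.TypeP.V_facts c.typeP c.typeV).1

/-- For type V: coherence, or the input `Key` of the counting argument of (10.8). -/
theorem coherent_or_key [Fintype ↥M] (c : Ctx M W₁ U W₂) (hB : PF8.BG16 G)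
    (hp : (Nat.card W₂).Prime) :
    Cfsg.IsCoherent (Cfsg.inducedIrrAbove (derivedIn M) ⊥) {1}ᶜ (tau M) ∨
      ∃ ζ χ, PF10.Key M W₁ W₂ ζ χ := by
  obtain ⟨R, hS⟩ := exists_system c hB
  refine (coherent_or_residual c hS).elim Or.inl ?_

  rintro ⟨p, r⟩
  by_cases hder : ⁅derivedIn M, derivedIn M⁆ = W₂.subgroupOf M
  · exact Or.inr (Residual.Keys.exists_key_of_derived c hB r hp hder)
  · rcases r.cases with hTI | ⟨h3, -⟩
    · exact Or.inl (coherent_TI c hB r hTI hder)
    · exact absurd (Residual.Keys.derived_eq_of_cube c r h3) hder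

/-- The same, with the primality of `|W₂|` taken from the partner. -/
theorem coherent_or_key_of_partner [Fintype ↥M] (c : Ctx M W₁ U W₂) (hB : PF8.BG16 G)
    (hP : PF10.Partner G) :
    Cfsg.IsCoherent (Cfsg.inducedIrrAbove (derivedIn M) ⊥) {1}ᶜ (tau M) ∨
      ∃ ζ χ, PF10.Key M W₁ W₂ ζ χ :=
  coherent_or_key c hB (W₂_prime_of_not_II hP c.max c.typeP c.not_typeII)

end Cfsg.Agent.Lib.OddOrder.PF10.TypeV
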