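import Cfsg.Agent.Lib.CyclicTI.Semidirect
import Cfsg.Agent.Lib.Isometry.DadeGen
import Cfsg.Agent.Lib.Isometry.InducedSystem
import Cfsg.Agent.Lib.Coprime.Commutator
import Cfsg.Agent.Lib.Characters.Degree
import Cfsg.Agent.Lib.Characters.Indicator
import Cfsg.Agent.Lib.Induced.Character
import Cfsg.Agent.S1513

/-!
# Peterfalvi (10.1)-(10.3): the characters of `M` used in §10

`ψ` is a nontrivial linear character of `W = W₁ W₂` trivial on `W₁`, `μ` the irreducible character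
with `μ w = δ ψ w` outside `W₂`, of degree `d = δ + n q`, `ξ` the function induced from its
restriction to `K`, and `ζ` an irreducible character induced from a linear character of `K`.
-/

set_option autoImplicit false
set_option linter.style.haveILetI false
set_option linter.unusedSectionVars false

namespace Cfsg.Agent.Lib.OddOrder.PF10.Local

open scoped ComplexConjugate Classical commutatorElement
open Cfsg.Agent.Lib.CyclicTI Cfsg.Agent.Lib.Induced.Basic Cfsg.Agent.Lib.Characters.Basic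
open Cfsg.Agent.Lib.Isometry

universe u

variable {L : Type u} [Group L] [Fintype L] {K W₁ W₂ : Subgroup L}

/-- The characters and their relations. -/
structure Data (K W₁ W₂ : Subgroup L) (ψ : ↥(W₁ ⊔ W₂) →* ℂˣ) (δ : ℤ) (n d : ℕ)
    (ζ μ ξ : L → ℂ) : Prop where
  isQ : IsQ ψ
  psi_ne : ψ ≠ 1
  sign : δ = 1 ∨ δ = -1
  degree_eq : (d : ℤ) = δ + n * Nat.card W₁
  two_le_n : 2 ≤ n
  zeta_irr : Cfsg.IsIrrCharacter L ζ
  zeta_mem : ζ ∈ Cfsg.inducedIrrAbove K ⊥
  conj_mem : Cfsg.conjFun ζ ∈ Cfsg.inducedIrrAbove K ⊥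
  xi_mem : ξ ∈ Cfsg.inducedIrrAbove K ⊥
  conj_ne : Cfsg.conjFun ζ ≠ ζ
  zeta_one : ζ 1 = (Nat.card W₁ : ℂ)
  zeta_off : ∀ x, x ∉ K → ζ x = 0
  mu_irr : Cfsg.IsIrrCharacter L μ
  mu_one : μ 1 = (d : ℂ)
  mu_W : ∀ w : ↥(W₁ ⊔ W₂), (w : L) ∉ W₂ → μ w = (δ : ℂ) * (ψ w : ℂ)
  xi_one : ξ 1 = (Nat.card W₁ : ℂ) * d
  xi_off : ∀ x, x ∉ K → ξ x = 0
  off_conj : ∀ x, x ∉ K → ∃ (g : L) (w : ↥(W₁ ⊔ W₂)), (w : L) ∉ W₂ ∧ g⁻¹ * x * g = w
  xi_xi : Cfsg.classInner ξ ξ = (Nat.card W₁ : ℂ)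
  mu_xi : Cfsg.classInner μ ξ = 1
  zeta_xi : Cfsg.classInner ζ ξ = 0
  conj_xi : Cfsg.classInner (Cfsg.conjFun ζ) ξ = 0
  one_xi : Cfsg.classInner (fun _ => (1 : ℂ)) ξ = 0
  mu_zeta : Cfsg.classInner μ ζ = 0
  mu_conj : Cfsg.classInner μ (Cfsg.conjFun ζ) = 0
  mu_trivial : Cfsg.classInner μ (fun _ => 1) = 0
  zeta_trivial : Cfsg.classInner ζ (fun _ => 1) = 0
  base_xi : Cfsg.classInner (Cfsg.indFun K fun _ => 1) ξ = 0
  base_zeta : Cfsg.classInner (Cfsg.indFun K fun _ => 1) ζ = 0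
  base_conj : Cfsg.classInner (Cfsg.indFun K fun _ => 1) (Cfsg.conjFun ζ) = 0
  base_mu : Cfsg.classInner (Cfsg.indFun K fun _ => 1) μ = 0
  base_trivial : Cfsg.classInner (Cfsg.indFun K fun _ => 1) (fun _ => 1) = 1
  base_base : Cfsg.classInner (Cfsg.indFun K fun _ => 1) (Cfsg.indFun K fun _ => 1) =
    (Nat.card W₁ : ℂ)

/-- The values of the function induced from the trivial character of `K`. -/
theorem base_apply [K.Normal] (x : L) :
    Cfsg.indFun K (fun _ => (1 : ℂ)) x = if x ∈ K then (K.index : ℂ) else 0 := by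
  split_ifs with hx
  · have h := Clifford.Basic.indFun_apply_normal (N := K) (fun _ => (1 : ℂ)) ⟨x, hx⟩
    simp only [Clifford.Basic.conjC] at h
    rw [show x = ((⟨x, hx⟩ : K) : L) from rfl, h, Finset.sum_const, Finset.card_univ, nsmul_eq_mul,
      mul_one, Fintype.card_eq_nat_card, ← K.card_mul_index, Nat.cast_mul, ← mul_assoc,
      inv_mul_cancel₀ (subgroup_card_ne_zero K), one_mul]
  · exact indFun_eq_zero_of_not_mem_normal K _ hx

/-- A nontrivial linear character of `K` is moved by `W₁`. -/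
theorem linear_moved [hK : K.Normal] (h : IsPLike K W₁ W₂) (hle : W₂ ≤ ⁅K, K⁆) {θ : K → ℂ}
    (hθ : Cfsg.IsIrrCharacter K θ) (hne : θ ≠ fun _ => 1) (h1 : θ 1 = 1) :
    ∃ x ∈ W₁, (fun k : K => θ ⟨x * k * x⁻¹, hK.conj_mem (k : L) k.2 x⟩) ≠ θ := by
  by_contra hall
  push Not at hall
  set lam := Characters.Linear.degOneHom (IsCharacter_of_isIrrCharacter hθ) h1 with hlam
  have hval : ∀ k : K, (lam k : ℂ) = θ k := fun k => Characters.Linear.degOneHom_apply _ _ k
  refine hne (funext fun k => ?_)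
  have hA : W₁ ≤ Subgroup.normalizer (K : Set L) := by rw [Subgroup.normalizer_eq_top]; exact le_top
  haveI := h.cyclic₁
  letI : CommGroup W₁ := IsCyclic.commGroup
  obtain ⟨n, hn, c, hc, e⟩ := Coprime.exists_commutator_mul_fixed hA h.coprime
    (Or.inl inferInstance) k.2
  -- both factors lie in the kernel
  set Z : Subgroup L := (lam.ker).map K.subtype with hZ
  have hZmem : ∀ (x : L) (hx : x ∈ K), θ ⟨x, hx⟩ = 1 → x ∈ Z := fun x hx hx1 =>
    ⟨⟨x, hx⟩, MonoidHom.mem_ker.2 (Units.ext (by rw [hval]; exact hx1)), rfl⟩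
  have hderived : ∀ x, x ∈ ⁅K, K⁆ → x ∈ Z := by
    have h2 : ⁅K, K⁆ ≤ Z := by
      rw [Subgroup.commutator_le]
      intro a ha b hb
      refine ⟨⁅(⟨a, ha⟩ : K), ⟨b, hb⟩⁆, ?_, by simp [commutatorElement_def]⟩
      rw [SetLike.mem_coe, MonoidHom.mem_ker, map_commutatorElement]
      exact commutatorElement_eq_one_iff_mul_comm.2 (mul_comm _ _)
    exact fun x hx => h2 hx
  have hnZ : n ∈ Z := by
    have h2 : ⁅K, W₁⁆ ≤ Z := by
      rw [Subgroup.commutator_le]
      intro a ha x hx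
      have hmem : ⁅a, x⁆ ∈ K := by
        rw [commutatorElement_def]
        simpa [mul_assoc] using K.mul_mem ha (hK.conj_mem _ (K.inv_mem ha) x)
      refine hZmem _ hmem ?_
      have hx' := congrFun (hall x hx) ⟨a⁻¹, K.inv_mem ha⟩
      have hsplit : (⟨⁅a, x⁆, hmem⟩ : K) =
          ⟨a, ha⟩ * ⟨x * a⁻¹ * x⁻¹, hK.conj_mem _ (K.inv_mem ha) x⟩ :=
        Subtype.ext (by simp [commutatorElement_def, mul_assoc])
      rw [hsplit, Characters.Linear.apply_mul_of_degree_one (IsCharacter_of_isIrrCharacter hθ) h1]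
      simp only at hx'
      rw [hx', ← Characters.Linear.apply_mul_of_degree_one (IsCharacter_of_isIrrCharacter hθ) h1]
      rw [show (⟨a, ha⟩ : K) * ⟨a⁻¹, K.inv_mem ha⟩ = 1 from Subtype.ext (mul_inv_cancel a), h1]
    exact h2 hn
  have hcZ : c ∈ Z := by
    refine hderived c (hle ?_)
    obtain ⟨a, ha, ha1⟩ := W₁.bot_or_exists_ne_one.resolve_left h.ne₁
    rw [← h.cent a ha ha1]
    exact ⟨hc.1, Subgroup.mem_centralizer_singleton_iff.2
      ((Subgroup.mem_centralizer_iff.1 hc.2 a ha).symm)⟩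
  have hkZ : (k : L) ∈ Z := by rw [e]; exact Z.mul_mem hnZ hcZ
  obtain ⟨k', hk', hkk⟩ := hkZ
  obtain rfl : k' = k := Subtype.ext hkk
  rw [← hval k', MonoidHom.mem_ker.1 hk', Units.val_one]

theorem norm_unit_eq_one {X : Type u} [Group X] [Finite X] (χ : X →* ℂˣ) (x : X) :
    ‖((χ x : ℂˣ) : ℂ)‖ = 1 := by
  refine Complex.norm_eq_one_of_pow_eq_one (n := Nat.card X) ?_ Nat.card_pos.ne'
  rw [← Units.val_pow_eq_pow_val, ← map_pow, pow_card_eq_one', map_one, Units.val_one]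

/-- An irreducible character of degree `|W₁|` induced from a linear character of `K`. -/
theorem exists_zeta [hK : K.Normal] (h : IsPLike K W₁ W₂) (hsolv : Group.IsSolvable K)
    (hle : W₂ ≤ ⁅K, K⁆) :
    ∃ ζ : L → ℂ, Cfsg.IsIrrCharacter L ζ ∧ ζ ∈ Cfsg.inducedIrrAbove K ⊥ ∧
      ζ 1 = (Nat.card W₁ : ℂ) := by
  obtain ⟨θ₀, hθ₀m, hθ₀1⟩ := InducedSystem.exists_linear K hsolv ⊥ (bot_lt_iff_ne_bot.2 fun e =>
    h.ne₂ (le_bot_iff.1 (h.le.trans e.le)))
  obtain ⟨hθ₀, hθ₀ne, hker⟩ := (InducedSystem.mem_theta K).1 hθ₀m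
  refine ⟨Cfsg.indFun K θ₀, ?_, ⟨θ₀, hθ₀, hθ₀ne, hker, rfl⟩, ?_⟩
  · exact (Cfsg.Agent.S1513.result K W₁ W₂ h.inf_eq h.sup_eq h.ne₁ h.cyclic₁ h.hall h.ne₂ h.cyclic₂
      h.le h.cent h.odd).1 θ₀ hθ₀ (linear_moved h hle hθ₀ hθ₀ne hθ₀1)
  · rw [indFun_one, hθ₀1, mul_one, h.index_eq]

/-- The data exist. -/
theorem exists_data [hK : K.Normal] (h : IsPLike K W₁ W₂) (hodd : Odd (Nat.card L))
    (hle : W₂ ≤ ⁅K, K⁆) {ζ : L → ℂ} (hζirr : Cfsg.IsIrrCharacter L ζ)
    (hζmem' : ζ ∈ Cfsg.inducedIrrAbove K ⊥) (hζ1 : ζ 1 = (Nat.card W₁ : ℂ)) :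
    ∃ (ψ : ↥(W₁ ⊔ W₂) →* ℂˣ) (δ : ℤ) (n d : ℕ) (μ ξ : L → ℂ),
      Data K W₁ W₂ ψ δ n d ζ μ ξ := by
  have hq3 : 3 ≤ Nat.card W₁ := by
    obtain ⟨k, hk⟩ := hodd.of_dvd_nat W₁.card_subgroup_dvd_card
    have : Nat.card W₁ ≠ 1 := fun e => h.ne₁ (Subgroup.card_eq_one.1 e)
    omega
  have hqodd : Odd (Nat.card W₁) := hodd.of_dvd_nat W₁.card_subgroup_dvd_card
  have hidx : K.index = Nat.card W₁ := h.index_eq
  -- `ψ`
  obtain ⟨y, hy, hy1⟩ := W₂.bot_or_exists_ne_one.resolve_left h.ne₂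
  have hyW : (inr (W₁ := W₁) hy : L) ∉ W₁ := fun hc =>
    hy1 (eq_one_of_mem h.selfNormalizing hc hy)
  obtain ⟨ψ, hψ, hψy⟩ := exists_isQ_apply_ne_one h.selfNormalizing hyW
  have hψ1 : ψ ≠ 1 := fun e => hψy (by rw [e]; rfl)
  -- `μ`
  obtain ⟨M, D, -, hMirr, hD, -, hMval, -, hMdeg⟩ := h.exists_characters
  obtain ⟨δ, hδ, hDδ⟩ : ∃ δ : ℤ, (δ = 1 ∨ δ = -1) ∧ D ψ = (δ : ℂ) := by
    rcases hD ψ with e | e
    · exact ⟨1, Or.inl rfl, by simpa using e⟩
    · exact ⟨-1, Or.inr rfl, by simpa using e⟩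
  set μ := M ψ with hμdef
  have hμ := hMirr ψ
  have hμcl : Cfsg.IsClassFunction L μ := isClassFunction_irr ⟨μ, hμ⟩
  have hμW : ∀ w : ↥(W₁ ⊔ W₂), (w : L) ∉ W₂ → μ w = (δ : ℂ) * (ψ w : ℂ) := fun w hw => by
    rw [hμdef, hMval ψ w hw, hDδ]
  obtain ⟨d, hd0, hddvd, hd⟩ := Characters.Degree.exists_degree_dvd ⟨μ, hμ⟩
  have hd' : μ 1 = (d : ℂ) := hd
  have hdodd : Odd d := hodd.of_dvd_nat hddvd
  -- off `K`
  have hoff : ∀ x, x ∉ K → ∃ (g : L) (w : ↥(W₁ ⊔ W₂)), (w : L) ∉ W₂ ∧ g⁻¹ * x * g = w := by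
    intro x hx
    have hx' : x ∈ K ⊔ W₁ := by rw [h.sup_eq]; exact Subgroup.mem_top x
    rw [Subgroup.mem_sup_of_normal_left] at hx'
    obtain ⟨k, hk, a, ha, rfl⟩ := hx'
    have ha1 : a ≠ 1 := fun e => hx (by rw [e, mul_one]; exact hk)
    obtain ⟨m, hm, hmem⟩ := DadeGen.exists_conj (N := K) (n := a)
      (fun u hu => hK.conj_mem u hu a) (h.coprime.coprime_dvd_left (W₁.orderOf_dvd_natCard ha))
      (x := k * a) (by rw [mul_inv_cancel_right]; exact hk)
    rw [h.cent a ha ha1] at hmem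
    refine ⟨m, ⟨m⁻¹ * (k * a) * m, ?_⟩, ?_, rfl⟩
    · have e : m⁻¹ * (k * a) * m = m⁻¹ * (k * a) * m * a⁻¹ * a := by group
      rw [e]
      exact mul_mem (Subgroup.mem_sup_right hmem) (Subgroup.mem_sup_left ha)
    · intro hc
      have hc' : m⁻¹ * (k * a) * m ∈ W₂ := hc
      have haW : a ∈ W₂ := by
        have e : a = (m⁻¹ * (k * a) * m * a⁻¹)⁻¹ * (m⁻¹ * (k * a) * m) := by group
        rw [e]; exact W₂.mul_mem (W₂.inv_mem hmem) hc'
      exact ha1 ((Subgroup.disjoint_def.1 (disjoint_iff.2 h.inf_eq)) (h.le haW) ha)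
  have hnorm_off : ∀ x, x ∉ K → μ x * conj (μ x) = 1 := by
    intro x hx
    obtain ⟨g, w, hw, e⟩ := hoff x hx
    have e2 : μ x = μ w := by
      rw [← e]
      simpa using (hμcl x g⁻¹).symm
    rw [Complex.mul_conj', e2, hμW w hw, norm_mul, norm_unit_eq_one, mul_one]
    rcases hδ with e' | e' <;> simp [e']
  -- the restriction is irreducible
  set θ : K → ℂ := fun k => μ k with hθdef
  have hθchar : Cfsg.IsCharacter K θ :=
    isCharacter_comp K.subtype (IsCharacter_of_isIrrCharacter hμ)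
  have hsplit : ∀ f : L → ℂ, ∑ x : L, f x =
      (∑ k : K, f k) + ∑ x ∈ Finset.univ.filter (fun x => x ∉ K), f x := fun f => by
    rw [← Finset.sum_filter_add_sum_filter_not Finset.univ (fun x => x ∈ K) f,
      Finset.sum_subtype (Finset.univ.filter (fun x => x ∈ K)) (p := fun x => x ∈ K) (by simp)]
  have hcardoff : ((Finset.univ.filter (fun x : L => x ∉ K)).card : ℂ) =
      (Nat.card L : ℂ) - (Nat.card K : ℂ) := by
    have h1 := hsplit (fun _ => (1 : ℂ))
    simp only [Finset.sum_const, Finset.card_univ, nsmul_eq_mul, mul_one,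
      Fintype.card_eq_nat_card] at h1
    linear_combination -h1
  have hθθ : Cfsg.classInner θ θ = 1 := by
    have h1 := classInner_self_irr ⟨μ, hμ⟩
    rw [Cfsg.classInner, inv_mul_eq_one₀ (Nat.cast_ne_zero.2 Nat.card_pos.ne'), hsplit,
      Finset.sum_congr rfl (s₁ := Finset.univ.filter (fun x : L => x ∉ K))
        (fun x hx => hnorm_off x (Finset.mem_filter.1 hx).2),
      Finset.sum_const, nsmul_eq_mul, mul_one, hcardoff] at h1
    rw [Cfsg.classInner, inv_mul_eq_one₀ (subgroup_card_ne_zero K)]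
    change (Nat.card K : ℂ) = ∑ k : K, μ k * conj (μ k)
    change (Nat.card L : ℂ) = (∑ k : K, μ k * conj (μ k)) + _ at h1
    linear_combination h1
  have hθ : Cfsg.IsIrrCharacter K θ := isIrrCharacter_of_classInner_self hθchar hθθ
  have hd1 : d ≠ 1 := by
    intro e
    have h1 : μ 1 = 1 := by rw [hd', e, Nat.cast_one]
    refine hψy ?_
    obtain ⟨a, ha, ha1⟩ := W₁.bot_or_exists_ne_one.resolve_left h.ne₁
    set f := Characters.Linear.degOneHom (IsCharacter_of_isIrrCharacter hμ) h1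
    have hfy : f y = 1 := MonoidHom.mem_ker.1 (Abelianization.commutator_subset_ker f
      (by rw [commutator_def]; exact Subgroup.commutator_mono le_top le_top (hle hy)))
    have hna : ((inl (W₂ := W₂) ha : ↥(W₁ ⊔ W₂)) : L) ∉ W₂ := fun hc =>
      ha1 (eq_one_of_mem h.selfNormalizing ha hc)
    have hnay : ((inl (W₂ := W₂) ha * inr (W₁ := W₁) hy : ↥(W₁ ⊔ W₂)) : L) ∉ W₂ := fun hc =>
      ha1 (eq_one_of_mem h.selfNormalizing ha (by
        have := W₂.mul_mem hc (W₂.inv_mem hy)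
        simpa [inl, inr] using this))
    have e1 := hμW _ hnay
    have e2 := hμW _ hna
    have e3 : μ ((inl (W₂ := W₂) ha * inr (W₁ := W₁) hy : ↥(W₁ ⊔ W₂)) : L) =
        μ ((inl (W₂ := W₂) ha : ↥(W₁ ⊔ W₂)) : L) := by
      have hmul := Characters.Linear.apply_mul_of_degree_one (χ := μ)
        (IsCharacter_of_isIrrCharacter hμ) h1
      rw [Subgroup.coe_mul, hmul]
      have := congrArg Units.val hfy
      rw [Characters.Linear.degOneHom_apply, Units.val_one] at this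
      rw [show ((inr (W₁ := W₁) hy : ↥(W₁ ⊔ W₂)) : L) = y from rfl,
        show μ y = 1 from this, mul_one]
    rw [e1, e2, map_mul, hψ _ (show ((inl (W₂ := W₂) ha : ↥(W₁ ⊔ W₂)) : L) ∈ W₁ from ha),
      one_mul] at e3
    refine Units.ext (mul_left_cancel₀ ?_ e3)
    rcases hδ with e' | e' <;> simp [e']
  have hθ1 : θ 1 = (d : ℂ) := hd'
  have hθne : θ ≠ fun _ => 1 := fun e => hd1 (by
    have := congrFun e 1; rw [hθ1] at this; exact_mod_cast this)
  -- `ζ`
  obtain ⟨θ₀, hθ₀, hθ₀ne, hθ₀ker, hζdef⟩ := hζmem'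
  have hθ₀1 : θ₀ 1 = 1 := by
    have e := hζ1
    rw [hζdef, indFun_one, hidx] at e
    exact mul_left_cancel₀ (subgroup_card_ne_zero W₁) (by rw [e, mul_one])
  have hζc : Cfsg.conjFun ζ = Cfsg.indFun K (Cfsg.conjFun θ₀) :=
    funext fun g => by rw [hζdef]; exact indFun_conj_fun K θ₀ g
  have hζmem : ζ ∈ InducedSystem.above K ⊥ := by
    rw [← Finset.mem_coe, InducedSystem.coe_above]
    exact ⟨θ₀, hθ₀, hθ₀ne, hθ₀ker, hζdef⟩
  set ξ := Cfsg.indFun K θ with hξdef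
  have hξmem : ξ ∈ Cfsg.inducedIrrAbove K ⊥ :=
    ⟨θ, hθ, hθne, fun a ha => by rw [Subgroup.mem_bot] at ha; rw [show a = 1 from Subtype.ext ha],
      rfl⟩
  have hcl : ∀ f : K → ℂ, Cfsg.IsClassFunction L (Cfsg.indFun K f) := fun f =>
    isClassFunction_indFun K f
  set b := Cfsg.indFun K (fun _ => (1 : ℂ)) with hbdef
  have hbK : ∀ k : K, b k = (Nat.card W₁ : ℂ) := fun k => by
    rw [hbdef, base_apply, if_pos k.2, hidx]
  have hξK : ∀ k : K, ξ k = (Nat.card W₁ : ℂ) * θ k := by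
    intro k
    have e := indFun_mul_restrict K (fun _ => (1 : ℂ)) hμcl
    simp only [one_mul] at e
    rw [hξdef, hθdef, e, ← hbK k]
  -- irreducible characters of `K`
  have hKirr : ∀ {α β : K → ℂ}, Cfsg.IsIrrCharacter K α → Cfsg.IsIrrCharacter K β → α 1 ≠ β 1 →
      Cfsg.classInner α β = 0 := fun {α β} hα hβ hne => by
    rw [Inner.classInner_irr_eq hα hβ, if_neg fun e => hne (by rw [e])]
  have h1irr : Cfsg.IsIrrCharacter K (fun _ => (1 : ℂ)) := (oneChar K).2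
  have hdne : (d : ℂ) ≠ 1 := fun e => hd1 (by exact_mod_cast e)
  have hc0 : Cfsg.conjFun θ₀ 1 = 1 := by simp [Cfsg.conjFun, hθ₀1]
  have hμ1 : Cfsg.classInner μ (fun _ => 1) = 0 := by
    have := Inner.classInner_irr_eq hμ (oneChar L).2
    rw [if_neg (fun e => hdne (by
      have := congrFun e 1; change μ 1 = _ at this; rw [hd'] at this
      simpa [oneChar_apply] using this))] at this
    exact this
  obtain ⟨N, hN⟩ := hMdeg ψ
  rw [← hμdef, hd', hDδ] at hN
  have hNint : (d : ℤ) = δ + N * Nat.card W₁ := by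
    have : ((d : ℤ) : ℂ) = ((δ + N * Nat.card W₁ : ℤ) : ℂ) := by
      push_cast; linear_combination hN
    exact_mod_cast this
  have hN2 : 2 ≤ N := by
    obtain ⟨a, ha⟩ := hdodd
    obtain ⟨c, hc⟩ := hqodd
    have hq3' : (3 : ℤ) ≤ (Nat.card W₁ : ℤ) := by exact_mod_cast hq3
    have hd3 : (3 : ℤ) ≤ (d : ℤ) := by exact_mod_cast (show 3 ≤ d by omega)
    have hpos : 0 < N := by
      by_contra hle0
      rcases hδ with e | e <;> nlinarith
    rcases Nat.eq_or_lt_of_le (show 1 ≤ N.toNat by omega) with e | e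
    · exfalso
      have hN1 : N = 1 := by omega
      rw [hN1, one_mul] at hNint
      rcases hδ with e' | e' <;> omega
    · omega
  refine ⟨ψ, δ, N.toNat, d, μ, ξ,
    { isQ := hψ
      psi_ne := hψ1
      sign := hδ
      degree_eq := by rw [Int.toNat_of_nonneg (by omega)]; exact hNint
      two_le_n := by omega
      zeta_irr := hζirr
      zeta_mem := by rw [← InducedSystem.coe_above]; exact hζmem
      conj_mem := by rw [← InducedSystem.coe_above]; exact InducedSystem.conj_mem K hζmem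
      xi_mem := hξmem
      conj_ne := fun e => ?_
      zeta_one := hζ1
      zeta_off := fun x hx => by rw [hζdef]; exact indFun_eq_zero_of_not_mem_normal K _ hx
      mu_irr := hμ
      mu_one := hd'
      mu_W := hμW
      xi_one := by rw [hξdef, indFun_one, hθ1, hidx]
      xi_off := fun x hx => indFun_eq_zero_of_not_mem_normal K _ hx
      off_conj := hoff
      xi_xi := ?_
      mu_xi := ?_
      zeta_xi := ?_
      conj_xi := ?_
      one_xi := ?_
      mu_zeta := ?_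
      mu_conj := ?_
      mu_trivial := hμ1
      zeta_trivial := ?_
      base_xi := ?_
      base_zeta := ?_
      base_conj := ?_
      base_mu := ?_
      base_trivial := ?_
      base_base := ?_ }⟩
  · have h0 := Characters.Indicator.eq_oneChar_of_real hodd ⟨ζ, hζirr⟩ (fun g => by
      rw [← Complex.conj_eq_iff_im]; exact congrFun e g)
    have h2 : ζ 1 = 1 := congrArg (fun χ : Cfsg.IrrCharacter L => (χ : L → ℂ) 1) h0
    rw [hζ1] at h2
    have : Nat.card W₁ = 1 := by exact_mod_cast h2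
    omega
  · have e : (fun k : K => ξ k) = (Nat.card W₁ : ℂ) • θ := funext fun k => by simp [hξK k]
    conv_lhs => arg 1; rw [hξdef]
    rw [frobenius_reciprocity K θ (hcl θ), ← hξdef, e, classInner_smul_right, hθθ, map_natCast, mul_one]
  · rw [hξdef, frobenius_reciprocity' K θ hμcl]; exact hθθ
  · have e : (fun k : K => ξ k) = (Nat.card W₁ : ℂ) • θ := funext fun k => by simp [hξK k]
    rw [hζdef, frobenius_reciprocity K θ₀ (hcl θ), ← hξdef, e, classInner_smul_right,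
      hKirr hθ₀ hθ (by rw [hθ₀1, hθ1]; exact hdne.symm), mul_zero]
  · have e : (fun k : K => ξ k) = (Nat.card W₁ : ℂ) • θ := funext fun k => by simp [hξK k]
    rw [hζc, frobenius_reciprocity K _ (hcl θ), ← hξdef, e, classInner_smul_right,
      hKirr (Inner.conjFun_irr hθ₀) hθ (by rw [hc0, hθ1]; exact hdne.symm), mul_zero]
  · rw [hξdef, frobenius_reciprocity' K θ (fun _ _ => rfl)]
    exact hKirr h1irr hθ (by rw [hθ1]; exact hdne.symm)
  · rw [hζdef, frobenius_reciprocity' K θ₀ hμcl]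
    exact hKirr hθ hθ₀ (show θ 1 ≠ θ₀ 1 by rw [hθ₀1, hθ1]; exact hdne)
  · rw [hζc, frobenius_reciprocity' K _ hμcl]
    exact hKirr hθ (Inner.conjFun_irr hθ₀) (show θ 1 ≠ Cfsg.conjFun θ₀ 1 by rw [hc0, hθ1]; exact hdne)
  · rw [hζdef, frobenius_reciprocity K θ₀ (fun _ _ => rfl)]
    rw [Inner.classInner_irr_eq hθ₀ h1irr, if_neg hθ₀ne]
  · have e : (fun k : K => ξ k) = (Nat.card W₁ : ℂ) • θ := funext fun k => by simp [hξK k]
    rw [frobenius_reciprocity K _ (hcl θ), ← hξdef, e, classInner_smul_right,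
      hKirr h1irr hθ (by rw [hθ1]; exact hdne.symm), mul_zero]
  · rw [hζdef, frobenius_reciprocity' K θ₀ (hcl _), ← hbdef]
    have e : (fun k : K => b k) = (Nat.card W₁ : ℂ) • (fun _ : K => (1 : ℂ)) :=
      funext fun k => by simp [hbK k]
    rw [e, classInner_smul_left, Inner.classInner_irr_eq h1irr hθ₀, if_neg (Ne.symm hθ₀ne), mul_zero]
  · rw [hζc, frobenius_reciprocity' K _ (hcl _), ← hbdef]
    have e : (fun k : K => b k) = (Nat.card W₁ : ℂ) • (fun _ : K => (1 : ℂ)) :=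
      funext fun k => by simp [hbK k]
    rw [e, classInner_smul_left, Inner.classInner_irr_eq h1irr (Inner.conjFun_irr hθ₀),
      if_neg (fun e' => hθ₀ne (by
        rw [← Inner.conjFun_conjFun θ₀, ← e']; exact funext fun _ => map_one _)), mul_zero]
  · rw [frobenius_reciprocity K _ hμcl]
    exact hKirr h1irr hθ (show (1 : ℂ) ≠ θ 1 by rw [hθ1]; exact hdne.symm)
  · rw [frobenius_reciprocity K (fun _ => (1 : ℂ)) (fun _ _ => rfl)]
    exact classInner_self_irr ⟨_, h1irr⟩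
  · rw [frobenius_reciprocity K (fun _ => (1 : ℂ)) (hcl _), ← hbdef,
      show (fun k : K => b k) = (Nat.card W₁ : ℂ) • (fun _ : K => (1 : ℂ)) from
        funext fun k => by simp [hbK k],
      classInner_smul_right, show Cfsg.classInner (fun _ : K => (1 : ℂ)) (fun _ => 1) = 1 from
        classInner_self_irr ⟨_, h1irr⟩, map_natCast, mul_one]

end Cfsg.Agent.Lib.OddOrder.PF10.Local
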