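import Cfsg.Agent.Lib.CyclicTI.Family
import Cfsg.Agent.Lib.GaloisMean.CosetAvg
import Cfsg.Agent.Lib.BC78.Galois
import Cfsg.Agent.Lib.OddOrder.PF11.Chars

/-!
# Peterfalvi (10.7): means of the family over cosets `a R`, `a` of order prime to `q`

Each mean of `η φ`, `φ` trivial on `W₂`, over a coset `a R` with `R` centralized by `a` is a rational
integer, equal to that of `η φ⁻¹`; their sum over `φ` is odd, hence of absolute value at least one.
-/

set_option autoImplicit false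
set_option linter.style.haveILetI false
set_option linter.unusedSectionVars false

namespace Cfsg.Agent.Lib.OddOrder.PF10.Mean

open scoped ComplexConjugate Classical
open Cfsg.Agent.Lib
open Cfsg.Agent.Lib.CyclicTI (IsP IsQ family_pow)
open Cfsg.Agent.Lib.BC78
open Cfsg.Agent.Lib.OddOrder.PF11.Chars (rows mem_rows)

universe u

variable {G : Type u} [Group G] [Fintype G]

/-- The mean of `f` over the coset `a R`. -/
noncomputable def mean (f : G → ℂ) (R : Subgroup G) (a : G) : ℂ :=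
  (Nat.card R : ℂ)⁻¹ * ∑ u : R, f (a * u)

theorem mean_smul (c : ℂ) (f : G → ℂ) (R : Subgroup G) (a : G) :
    mean (c • f) R a = c * mean f R a := by
  simp only [mean, Pi.smul_apply, smul_eq_mul, ← Finset.mul_sum]
  ring

theorem mean_sum {ι : Type*} (s : Finset ι) (f : ι → G → ℂ) (R : Subgroup G) (a : G) :
    mean (∑ i ∈ s, f i) R a = ∑ i ∈ s, mean (f i) R a := by
  simp only [mean, Finset.sum_apply, Finset.mul_sum]
  exact Finset.sum_comm

theorem mean_one (R : Subgroup G) (a : G) : mean (fun _ => (1 : ℂ)) R a = 1 := by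
  simp [mean]

theorem isIntegral_mean {f : G → ℂ} (hf : Cfsg.IsCharacter G f) {R : Subgroup G} {a : G}
    (hc : ∀ u ∈ R, a * u = u * a) : IsIntegral ℤ (mean f R a) := by
  set X := Subgroup.normalizer (R : Set G)
  have ha : a ∈ X := Subgroup.centralizer_le_normalizer _
    (Subgroup.mem_centralizer_iff.2 fun u hu => (hc u hu).symm)
  haveI : (R.subgroupOf X).Normal := Subgroup.normal_in_normalizer
  have hchar := GaloisMean.CosetAvg.isCharacter_avg (R.subgroupOf X)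
    (Characters.Basic.isCharacter_comp X.subtype hf)
  have h := Characters.Basic.isIntegral_apply hchar (⟨a, ha⟩ : X)
  have hle : R ≤ X := Subgroup.le_normalizer
  have e : mean f R a = (Nat.card (R.subgroupOf X) : ℂ)⁻¹ *
      ∑ n : R.subgroupOf X, f (X.subtype ((n : X) * ⟨a, ha⟩)) := by
    rw [mean, Nat.card_congr (Subgroup.subgroupOfEquivOfLe hle).toEquiv]
    congr 1
    refine (Fintype.sum_equiv (Subgroup.subgroupOfEquivOfLe hle).toEquiv _ _ fun n => ?_).symm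
    exact congrArg f (hc _ n.2).symm
  rw [e]
  exact h

variable {W₁ W₂ : Subgroup G} {η : (↥(W₁ ⊔ W₂) →* ℂˣ) → (G → ℂ)}

/-- The means are rational integers. -/
theorem exists_int (hW : Cfsg.IsSelfNormalizingCyclic W₁ W₂)
    (hodd : Odd (Nat.card ↥(W₁ ⊔ W₂))) (hη : Cfsg.IsCyclicTIFamily W₁ W₂ η)
    {φ : ↥(W₁ ⊔ W₂) →* ℂˣ} {R : Subgroup G} {a : G} (hc : ∀ u ∈ R, a * u = u * a)
    (hcop : (orderOf a).Coprime (orderOf φ)) : ∃ m : ℤ, mean (η φ) R a = m := by
  classical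
  obtain ⟨f, s, hs, hf, hsf⟩ : ∃ (f : G → ℂ) (s : ℤ), (s = 1 ∨ s = -1) ∧ Cfsg.IsCharacter G f ∧
      η φ = (s : ℂ) • f := by
    rcases hη.irr_or_neg φ with h | h
    · exact ⟨_, 1, Or.inl rfl, Characters.Basic.IsCharacter_of_isIrrCharacter h, by simp⟩
    · exact ⟨_, -1, Or.inr rfl, Characters.Basic.IsCharacter_of_isIrrCharacter h, by simp⟩
  have hs0 : (s : ℂ) ≠ 0 := by rcases hs with e | e <;> simp [e]
  suffices ∀ σ : Galois.Alg ≃ₐ[ℚ] Galois.Alg,
      ((σ ⟨mean f R a, Galois.mem_alg_of_isIntegral (isIntegral_mean hf hc)⟩ : Galois.Alg) : ℂ) =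
        mean f R a by
    obtain ⟨m, hm⟩ := Galois.exists_int_of_fixed (isIntegral_mean hf hc) this
    exact ⟨s * m, by rw [hsf, mean_smul, ← hm]; push_cast; rfl⟩
  intro σ
  obtain ⟨k, hk, hσ⟩ := Galois.exists_exponent_char (G := G) σ
  have hmem : ∀ u : R, f (a * u) ∈ Galois.Alg := fun u =>
    Galois.mem_alg_of_isIntegral (Characters.Basic.isIntegral_apply hf _)
  have e1 : (⟨mean f R a, Galois.mem_alg_of_isIntegral (isIntegral_mean hf hc)⟩ : Galois.Alg) =
      (Nat.card R : Galois.Alg)⁻¹ * ∑ u : R, (⟨f (a * u), hmem u⟩ : Galois.Alg) := by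
    apply Subtype.ext
    push_cast
    rfl
  rw [e1, map_mul, map_inv₀, map_natCast, map_sum]
  push_cast
  simp only [hσ f hf _ (hmem _)]
  -- powers of the coset
  have hbij : ∀ {r : ℕ}, r.Coprime (Nat.card G) →
      ∑ u : R, f (a ^ r * u) = ∑ u : R, f ((a * u) ^ r) := fun {r} hr => by
    have hr' : (Nat.card R).Coprime r :=
      (hr.coprime_dvd_right (Subgroup.card_subgroup_dvd_card R)).symm
    refine (Fintype.sum_equiv (powCoprime hr') _ _ fun u => ?_).symm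
    rw [Commute.mul_pow (hc u u.2 : Commute a (u : G)), powCoprime_apply, SubgroupClass.coe_pow]
  rw [← hbij hk]
  -- an exponent fixing `φ`
  have hφG : φ ^ Nat.card G = 1 := by
    ext w
    rw [show (φ ^ Nat.card G) w = φ w ^ Nat.card G from rfl, ← map_pow,
      show w ^ Nat.card G = 1 from Subtype.ext (by simp)]
    simp
  set b := orderOf φ with hb
  have hbG : b ∣ Nat.card G := orderOf_dvd_of_pow_eq_one hφG
  have hoG : orderOf a ∣ Nat.card G := orderOf_dvd_natCard a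
  obtain ⟨t, ht1, ht2⟩ := Nat.chineseRemainder hcop.symm 1 k
  have htc : t.Coprime (b * orderOf a) := by
    refine Nat.Coprime.mul_right ?_ ?_
    · rw [Nat.Coprime, Nat.ModEq.gcd_eq ht1, Nat.gcd_one_left]
    · rw [Nat.Coprime, Nat.ModEq.gcd_eq ht2]
      exact hk.coprime_dvd_right hoG
  haveI : NeZero (Nat.card G) := ⟨Nat.card_pos.ne'⟩
  obtain ⟨u, hu⟩ := ZMod.unitsMap_surjective
    (hcop.symm.mul_dvd_of_dvd_of_dvd hbG hoG) (ZMod.unitOfCoprime t htc)
  set k' := (u : ZMod (Nat.card G)).val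
  set l := ((u⁻¹ : (ZMod (Nat.card G))ˣ) : ZMod (Nat.card G)).val
  have hk' : k'.Coprime (Nat.card G) := ZMod.val_coe_unit_coprime u
  have hkl : k' * l ≡ 1 [MOD Nat.card G] := by
    rw [← ZMod.natCast_eq_natCast_iff]
    simp [k', l]
  have hkt : k' ≡ t [MOD b * orderOf a] := by
    rw [← ZMod.natCast_eq_natCast_iff]
    have h := congrArg (fun v : (ZMod (b * orderOf a))ˣ => (v : ZMod (b * orderOf a))) hu
    simp only [ZMod.coe_unitOfCoprime] at h
    rw [← h]
    simp [k', ZMod.unitsMap_def, ZMod.castHom_apply]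
  have hl : l ≡ 1 [MOD b] := by
    have h1 : k' ≡ 1 [MOD b] := (hkt.of_dvd (Dvd.intro _ rfl)).trans ht1
    have h2 := hkl.of_dvd hbG
    calc l = 1 * l := (one_mul l).symm
      _ ≡ k' * l [MOD b] := (h1.symm.mul_right l)
      _ ≡ 1 [MOD b] := h2
  have hφl : φ ^ l = φ := by
    ext w
    refine congrArg Units.val ?_
    show φ w ^ l = φ w
    conv_rhs => rw [← pow_one (φ w)]
    refine pow_eq_pow_iff_modEq.2 (hl.of_dvd (orderOf_dvd_of_pow_eq_one ?_))
    exact DFunLike.congr_fun (pow_orderOf_eq_one φ) w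
  have hak : a ^ k' = a ^ k :=
    pow_eq_pow_iff_modEq.2 ((hkt.of_dvd (Dvd.intro_left _ rfl)).trans ht2)
  rw [← hak, hbij hk', mean]
  congr 1
  refine Finset.sum_congr rfl fun x _ => ?_
  have h := family_pow hW hodd hη hk' hkl φ (a * x)
  rw [hφl, hsf, Pi.smul_apply, Pi.smul_apply, smul_eq_mul, smul_eq_mul] at h
  exact mul_left_cancel₀ hs0 h

/-- `η φ⁻¹` is the conjugate of `η φ`. -/
theorem eta_inv (hW : Cfsg.IsSelfNormalizingCyclic W₁ W₂) (hodd : Odd (Nat.card ↥(W₁ ⊔ W₂)))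
    (hη : Cfsg.IsCyclicTIFamily W₁ W₂ η) (φ : ↥(W₁ ⊔ W₂) →* ℂˣ) (g : G) :
    η φ⁻¹ g = conj (η φ g) := by
  classical
  set N := Nat.card G with hN
  have hN0 : 0 < N := Nat.card_pos
  obtain ⟨n, hn⟩ : ∃ n, N = n + 1 := ⟨N - 1, by omega⟩
  have hk : n.Coprime N := by rw [hn]; simp [Nat.coprime_self_add_right]
  have hkl : n * n ≡ 1 [MOD N] := by
    rw [hn, ← ZMod.natCast_eq_natCast_iff]
    have : ((n : ℕ) : ZMod (n + 1)) = -1 := by
      rw [eq_neg_iff_add_eq_zero]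
      exact_mod_cast ZMod.natCast_self (n + 1)
    rw [Nat.cast_mul, this]; simp
  have hg : g ^ n = g⁻¹ := eq_inv_of_mul_eq_one_left (by rw [← pow_succ, ← hn, pow_card_eq_one'])
  have hφ : φ ^ n = φ⁻¹ := by
    refine MonoidHom.ext fun w => ?_
    rw [show (φ ^ n) w = φ w ^ n from rfl, MonoidHom.inv_apply]
    refine eq_inv_of_mul_eq_one_left ?_
    rw [← pow_succ, ← hn, ← map_pow, show w ^ N = 1 from Subtype.ext (by simp [hN]), map_one]
  have h := family_pow hW hodd hη hk hkl φ g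
  rw [hφ, hg] at h
  rw [← h]
  rcases hη.irr_or_neg φ⁻¹ with e | e
  · rw [Characters.Basic.apply_inv (Characters.Basic.IsCharacter_of_isIrrCharacter e) g, Complex.conj_conj]
  · have := Characters.Basic.apply_inv (Characters.Basic.IsCharacter_of_isIrrCharacter e) g
    simp only [Pi.neg_apply, map_neg, neg_inj] at this
    rw [this, Complex.conj_conj]

/-- The sum of the means over a row is an odd integer. -/
theorem one_le_norm_sum (hW : Cfsg.IsSelfNormalizingCyclic W₁ W₂)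
    (hodd : Odd (Nat.card ↥(W₁ ⊔ W₂))) (hη : Cfsg.IsCyclicTIFamily W₁ W₂ η)
    {R : Subgroup G} {a : G} (hc : ∀ u ∈ R, a * u = u * a)
    (hcop : (orderOf a).Coprime (Nat.card W₁)) :
    1 ≤ ‖∑ φ ∈ rows W₁ W₂, mean (η φ) R a‖ := by
  classical
  have hord : ∀ φ : ↥(W₁ ⊔ W₂) →* ℂˣ, IsP φ → orderOf φ ∣ Nat.card W₁ := fun φ hφ => by
    refine orderOf_dvd_of_pow_eq_one (MonoidHom.ext fun w => ?_)
    obtain ⟨π₁, π₂, hπ⟩ := CyclicTI.exists_proj hW
    have hpow : (π₁ w) ^ Nat.card W₁ = 1 := Subtype.ext (by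
      rw [SubgroupClass.coe_pow, Subgroup.coe_one]
      exact orderOf_dvd_iff_pow_eq_one.1 (Subgroup.orderOf_dvd_natCard _ (hπ w).2.1))
    show φ w ^ Nat.card W₁ = 1
    rw [(hπ w).1, map_mul, hφ _ (hπ w).2.2, mul_one, ← map_pow, hpow, map_one]
  have hint : ∀ φ, ∃ m : ℤ, φ ∈ rows W₁ W₂ → mean (η φ) R a = m := fun φ => by
    by_cases hφ : φ ∈ rows W₁ W₂
    · obtain ⟨m, hm⟩ := exists_int hW hodd hη hc (φ := φ)
        (hcop.coprime_dvd_right (hord φ (mem_rows.1 hφ)))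
      exact ⟨m, fun _ => hm⟩
    · exact ⟨0, fun h => absurd h hφ⟩
  choose m hm using hint
  have hmem : ∀ φ ∈ rows W₁ W₂, φ⁻¹ ∈ rows W₁ W₂ := fun φ hφ => mem_rows.2 fun w hw => by
    rw [MonoidHom.inv_apply, mem_rows.1 hφ w hw, inv_one]
  have hsym : ∀ φ ∈ rows W₁ W₂, m φ⁻¹ = m φ := fun φ hφ => by
    have : (m φ⁻¹ : ℂ) = (m φ : ℂ) := by
      rw [← hm _ (hmem φ hφ), ← map_intCast (starRingEnd ℂ) (m φ), ← hm _ hφ]
      simp only [mean, eta_inv hW hodd hη φ, map_mul, map_inv₀, map_natCast, map_sum]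
    exact_mod_cast this
  have h1 : (1 : ↥(W₁ ⊔ W₂) →* ℂˣ) ∈ rows W₁ W₂ := mem_rows.2 CyclicTI.isP_one
  have hm1 : m 1 = 1 := by
    have := hm 1 h1
    rw [hη.map_one, mean_one] at this
    exact_mod_cast this.symm
  have hne : ∀ φ : ↥(W₁ ⊔ W₂) →* ℂˣ, φ⁻¹ = φ → φ = 1 := fun φ h => by
    refine MonoidHom.ext fun w => ?_
    have h2 : φ w ^ 2 = 1 := by
      have e := DFunLike.congr_fun h w
      rw [MonoidHom.inv_apply] at e
      rw [sq]
      nth_rewrite 1 [← e]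
      exact inv_mul_cancel _
    have h3 : φ w ^ Nat.card ↥(W₁ ⊔ W₂) = 1 := by rw [← map_pow, pow_card_eq_one', map_one]
    have h4 : φ w ^ Nat.gcd 2 (Nat.card ↥(W₁ ⊔ W₂)) = 1 := pow_gcd_eq_one.2 ⟨h2, h3⟩
    rw [Nat.coprime_two_left.2 hodd, pow_one] at h4
    rw [h4, MonoidHom.one_apply]
  have hzero : (((∑ φ ∈ (rows W₁ W₂).erase 1, m φ : ℤ)) : ZMod 2) = 0 := by
    push_cast
    refine Finset.sum_involution (fun φ _ => φ⁻¹) (fun φ hφ => ?_) (fun φ hφ hf e => ?_)
      (fun φ hφ => ?_) (fun φ _ => inv_inv φ)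
    · rw [hsym φ (Finset.mem_of_mem_erase hφ)]
      exact CharTwo.add_self_eq_zero _
    · exact (Finset.ne_of_mem_erase hφ) (hne φ e)
    · refine Finset.mem_erase.2 ⟨fun e => (Finset.ne_of_mem_erase hφ) (MonoidHom.ext fun w => inv_eq_one.1 (DFunLike.congr_fun e w)),
        hmem φ (Finset.mem_of_mem_erase hφ)⟩
  have hodd' : ∑ φ ∈ rows W₁ W₂, m φ ≠ 0 := fun e => by
    rw [← Finset.add_sum_erase _ _ h1, hm1] at e
    have := congrArg (Int.cast : ℤ → ZMod 2) e
    rw [Int.cast_add, hzero, Int.cast_one, add_zero, Int.cast_zero] at this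
    exact one_ne_zero this
  rw [Finset.sum_congr rfl fun φ hφ => hm φ hφ, ← Int.cast_sum, Complex.norm_intCast]
  exact_mod_cast Int.one_le_abs hodd'

end Cfsg.Agent.Lib.OddOrder.PF10.Mean
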