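import Cfsg.Agent.Lib.OddOrder.PF10.Ctx
import Cfsg.Agent.Lib.OddOrder.PF10.Mean
import Cfsg.Agent.Lib.OddOrder.PF12.Avg
import Cfsg.Agent.Lib.OddOrder.PF8.Dade
import Cfsg.Agent.Lib.Characters.Complete
import Cfsg.Agent.Lib.Clifford.Basic
import Cfsg.Agent.S1525

/-!
# Peterfalvi (10.7), the `M` side: `χ` has weight at least `1 - q / m` on `Ã₁(M)`, `m = |M'| - 1`
-/

set_option autoImplicit false
set_option linter.style.haveILetI false
set_option linter.unusedSectionVars false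

namespace Cfsg.Agent.Lib.OddOrder.PF10.MSide

open scoped ComplexConjugate Classical
open Cfsg.Agent.Lib
open Cfsg.Agent.Lib.OddOrder.Interface.PF11 (derivedIn tau)
open Cfsg.Agent.Lib.Induced.Basic (classInner_smul_left classInner_smul_right classInner_conj_symm
  subgroup_card_ne_zero)

universe u

variable {G : Type u} [Group G] [Fintype G] {M : Subgroup G} [Fintype ↥M] {H : Subgroup ↥M}
  {W₁ W₂ : Subgroup G} {ζ : ↥M → ℂ} {χ : G → ℂ}

/-- Averages over `R(a)`. -/
noncomputable def meanFun (M : Subgroup G) (χ : G → ℂ) : ↥M → ℂ :=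
  fun a => Mean.mean χ (Cfsg.supportR M a) a

theorem mean_eq_finsum (f : G → ℂ) (R : Subgroup G) (a : G) :
    Mean.mean f R a = (Nat.card R : ℂ)⁻¹ * ∑ᶠ u ∈ (R : Set G), f (a * u) := by
  rw [Mean.mean, finsum_mem_eq_toFinset_sum]
  congr 1
  exact (Finset.sum_subtype (R : Set G).toFinset (fun _ => Set.mem_toFinset) fun u => f (a * u)).symm

/-- The weighted sum of the basic combinations over the nontrivial irreducible characters of `M'`. -/
noncomputable def beta (M : Subgroup G) [Fintype ↥M] (ζ : ↥M → ℂ) : ↥M → ℂ :=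
  haveI := Fintype.ofFinite (Cfsg.IrrCharacter ↥(derivedIn M))
  ∑ θ ∈ Finset.univ.erase (Characters.Basic.oneChar ↥(derivedIn M)),
    (θ : ↥(derivedIn M) → ℂ) 1 • (Cfsg.indFun (derivedIn M) (θ : ↥(derivedIn M) → ℂ) -
      (θ : ↥(derivedIn M) → ℂ) 1 • ζ)

/-- The values of `beta`. -/
theorem beta_apply (c : Ctx M H W₁ W₂) (k : Key M W₁ W₂ ζ χ) (x : ↥M) :
    beta M ζ x = if x ∈ derivedIn M ∧ x ≠ 1 then
      -(Nat.card W₁ : ℂ) - ((Nat.card (derivedIn M) : ℂ) - 1) * ζ x else 0 := by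
  haveI := c.hyp.K_normal
  haveI := Fintype.ofFinite (Cfsg.IrrCharacter ↥(derivedIn M))
  set K := derivedIn M
  set T := Finset.univ.erase (Characters.Basic.oneChar ↥K) with hT
  have hreg : ∀ z : K, ∑ θ ∈ T, (θ : K → ℂ) 1 * (θ : K → ℂ) z =
      (if z = 1 then (Nat.card K : ℂ) else 0) - 1 := fun z => by
    rw [hT, Finset.sum_erase_eq_sub (Finset.mem_univ _),
      Characters.Complete.sum_degree_mul_apply, Characters.Basic.oneChar_apply,
      Characters.Basic.oneChar_apply, one_mul]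
  have hidx : (K.index : ℂ) = (Nat.card W₁ : ℂ) := by rw [c.hyp.plike.index_eq, c.card₁]
  have hm : ∑ θ ∈ T, (θ : K → ℂ) 1 * (θ : K → ℂ) 1 = (Nat.card K : ℂ) - 1 := by
    rw [hreg, if_pos rfl]
  have happ : beta M ζ x = ∑ θ ∈ T, (θ : K → ℂ) 1 * Cfsg.indFun K (θ : K → ℂ) x -
      ((Nat.card K : ℂ) - 1) * ζ x := by
    rw [← hm, Finset.sum_mul, ← Finset.sum_sub_distrib]
    simp only [beta, Finset.sum_apply, Pi.smul_apply, Pi.sub_apply, smul_eq_mul, mul_sub, mul_assoc]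
    exact Finset.sum_congr (by convert rfl) fun θ _ => rfl
  rw [happ]
  split_ifs with hx
  · obtain ⟨hxK, hx1⟩ := hx
    congr 1
    have e : ∀ θ : Cfsg.IrrCharacter K, Cfsg.indFun K (θ : K → ℂ) x =
        (Nat.card K : ℂ)⁻¹ * ∑ y : ↥M, Clifford.Basic.conjC K y (θ : K → ℂ) ⟨x, hxK⟩ := fun θ => by
      rw [← Clifford.Basic.indFun_apply_normal]
    simp only [e, mul_left_comm _ (Nat.card K : ℂ)⁻¹, Finset.mul_sum (s := (Finset.univ : Finset ↥M))]
    rw [Finset.sum_comm]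
    have e2 : ∀ y : ↥M, ∑ θ ∈ T, (Nat.card K : ℂ)⁻¹ *
        ((θ : K → ℂ) 1 * Clifford.Basic.conjC K y (θ : K → ℂ) ⟨x, hxK⟩) =
          (Nat.card K : ℂ)⁻¹ * (-1) := fun y => by
      rw [← Finset.mul_sum]
      simp only [Clifford.Basic.conjC]
      rw [hreg, if_neg, zero_sub]
      intro e
      exact hx1 (conj_eq_one_iff.1 (congrArg Subtype.val e))
    rw [Finset.sum_congr rfl fun y _ => e2 y, Finset.sum_const, Finset.card_univ,
      Fintype.card_eq_nat_card, ← K.card_mul_index, nsmul_eq_mul, Nat.cast_mul, hidx]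
    field_simp [subgroup_card_ne_zero K]
  · by_cases hxK : x ∈ K
    · obtain rfl : x = 1 := by
        by_contra h1
        exact hx ⟨hxK, h1⟩
      simp only [Induced.Basic.indFun_one, hidx, k.zeta_one]
      rw [← hm, Finset.sum_mul, ← Finset.sum_sub_distrib]
      exact Finset.sum_eq_zero fun θ _ => by ring
    · have hz : ζ x = 0 := by
        obtain ⟨θ, -, -, -, e⟩ := k.zeta_mem
        rw [e]
        exact Induced.Basic.indFun_eq_zero_of_not_mem_normal K θ hxK
      rw [hz, mul_zero, sub_zero]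
      exact Finset.sum_eq_zero fun θ _ => by
        rw [Induced.Basic.indFun_eq_zero_of_not_mem_normal K _ hxK, mul_zero]

theorem beta_gen (k : Key M W₁ W₂ ζ χ) :
    Cfsg.IsGeneralizedCharacter ↥M (beta M ζ) := by
  refine Isometry.Inner.gen_sum _ fun θ _ => ?_
  obtain ⟨d, -, hd⟩ := Characters.Basic.exists_degree_pos θ
  rw [hd, ← Int.cast_natCast]
  exact Isometry.Inner.gen_intCast_smul (Isometry.Inner.gen_sub
    (Isometry.Inner.gen_of_isCharacter (Induced.Character.isCharacter_indFun _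
      (Characters.Basic.IsCharacter_of_isIrrCharacter θ.2)))
    (Isometry.Inner.gen_intCast_smul (Isometry.Inner.gen_of_irr k.zeta_irr) _)) _

/-- The `M` side of the count. -/
theorem weight (c : Ctx M H W₁ W₂) (k : Key M W₁ W₂ ζ χ)
    (hcore : Cfsg.typeCore M = ⁅M, M⁆)
    (hD1 : Cfsg.DadeHypothesis (Cfsg.typeA1 M) M (Cfsg.supportR M))
    (hm : Nat.card W₁ + 1 < Nat.card (derivedIn M)) :
    1 - (Nat.card W₁ : ℝ) / ((Nat.card (derivedIn M) : ℝ) - 1) ≤
      (Nat.card G : ℝ)⁻¹ * ∑ᶠ g ∈ Cfsg.tildeOf M (Cfsg.typeA1 M), ‖χ g‖ ^ 2 := by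
  haveI := c.hyp.K_normal
  set K := derivedIn M
  have hchi : Cfsg.IsClassFunction G χ :=
    Isometry.Inner.gen_classFun (Isometry.Inner.gen_of_signed k.signed)
  have hβs : ∀ x : ↥M, (x : G) ∉ Cfsg.Agent.Lib.OddOrder.TypeOne.typeA0 M → beta M ζ x = 0 := fun x hx => by
    rw [beta_apply c k, if_neg fun h => hx (c.sub x h.1 h.2)]
  have hβcl := Isometry.Inner.gen_classFun (beta_gen k)
  -- `⟨χ, τ β⟩ = ⟨ζ, β⟩`
  have hlink : Cfsg.classInner χ (tau M (beta M ζ)) = Cfsg.classInner ζ (beta M ζ) := by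
    rw [beta, PF11.Tau.tau_sum, Characters.Basic.classInner_sum_right,
      Characters.Basic.classInner_sum_right]
    refine Finset.sum_congr rfl fun θ hθ => ?_
    rw [PF11.Tau.tau_smul, classInner_smul_right, classInner_smul_right,
      k.ind θ θ.2 fun e => Finset.ne_of_mem_erase hθ (Subtype.ext e)]
  -- the adjoint
  set ψ := meanFun M χ with hψ
  have hadj : Cfsg.classInner (tau M (beta M ζ)) χ = Cfsg.classInner (beta M ζ) ψ :=
    Isometry.Dade.classInner_dade (ψ := ψ) c.hyp.dade hβcl hβs hchi fun a _ => mean_eq_finsum χ _ a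
  set P : Finset ↥M := Finset.univ.filter (fun x => x ∈ K ∧ x ≠ 1) with hP
  have hsplit : ∀ f : ↥M → ℂ, (∀ x, x ∉ K → f x = 0) → ∑ x : ↥M, f x = ∑ x ∈ P, f x + f 1 := by
    intro f hf
    have e1 : ∑ x : ↥M, f x = ∑ x ∈ Finset.univ.filter (fun x => x ∈ K), f x :=
      (Finset.sum_filter_of_ne fun x _ h => by_contra fun h' => h (hf x h')).symm
    rw [e1, ← Finset.sum_erase_add _ _ (a := (1 : ↥M)) (by simp)]
    congr 1
    exact Finset.sum_congr (by ext x; simp [hP, and_comm]) fun _ _ => rfl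
  have hζoff : ∀ x, x ∉ K → ζ x = 0 := fun x hx => by
    obtain ⟨θ, -, -, -, e⟩ := k.zeta_mem
    rw [e]
    exact Induced.Basic.indFun_eq_zero_of_not_mem_normal K θ hx
  have hMK : (Nat.card ↥M : ℂ) = (Nat.card W₁ : ℂ) * (Nat.card K : ℂ) := by
    rw [← K.card_mul_index, c.hyp.plike.index_eq, c.card₁, Nat.cast_mul, mul_comm]
  have hq3 := c.three_le_q
  have hS1 : ∑ x ∈ P, ζ x = -(Nat.card W₁ : ℂ) := by
    have h1 := hsplit ζ hζoff
    have h2 : Cfsg.classInner ζ (fun _ => (1 : ℂ)) = 0 := by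
      rw [Isometry.Inner.classInner_irr_eq (ψ := fun _ : ↥M => (1 : ℂ)) k.zeta_irr
        (Characters.Basic.oneChar ↥M).2, if_neg]
      intro e
      have e1 := congrFun e 1
      rw [k.zeta_one] at e1
      have : Nat.card W₁ = 1 := by exact_mod_cast e1
      omega
    rw [Cfsg.classInner, mul_eq_zero] at h2
    have h3 := h2.resolve_left (inv_ne_zero (Nat.cast_ne_zero.2 Nat.card_pos.ne'))
    simp only [map_one, mul_one] at h3
    rw [h3, k.zeta_one] at h1
    linear_combination -h1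
  have hS2 : ∑ x ∈ P, ζ x * conj (ζ x) =
      (Nat.card W₁ : ℂ) * (Nat.card K : ℂ) - (Nat.card W₁ : ℂ) ^ 2 := by
    have h1 := hsplit (fun x => ζ x * conj (ζ x)) (fun x hx => by rw [hζoff x hx, zero_mul])
    have h2 := Characters.Basic.classInner_self_irr ⟨ζ, k.zeta_irr⟩
    rw [Cfsg.classInner, inv_mul_eq_one₀ (Nat.cast_ne_zero.2 Nat.card_pos.ne'), hMK] at h2
    rw [← h2, k.zeta_one, map_natCast] at h1
    linear_combination -h1
  have hS3 : ∑ x ∈ P, conj (ζ x) = -(Nat.card W₁ : ℂ) := by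
    rw [← map_sum, hS1, map_neg, map_natCast]
  have hcardP : (P.card : ℂ) = (Nat.card K : ℂ) - 1 := by
    have h1 := hsplit (fun x => if x ∈ K then (1 : ℂ) else 0) (fun x hx => if_neg hx)
    have e : ∑ x ∈ P, (if x ∈ K then (1 : ℂ) else 0) = P.card := by
      rw [Finset.sum_congr rfl (fun x hx => if_pos (Finset.mem_filter.1 hx).2.1), Finset.sum_const,
        nsmul_eq_mul, mul_one]
    rw [e, if_pos (one_mem K), Finset.sum_boole, ← Fintype.card_subtype,
      Fintype.card_eq_nat_card] at h1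
    linear_combination -h1
  set mm : ℂ := (Nat.card K : ℂ) - 1 with hmm
  have hbP : ∀ x ∈ P, beta M ζ x = -(Nat.card W₁ : ℂ) - mm * ζ x := fun x hx => by
    rw [beta_apply c k, if_pos (Finset.mem_filter.1 hx).2]
  have hbzero : ∀ x, x ∉ P → beta M ζ x = 0 := fun x hx => by
    rw [beta_apply c k, if_neg fun h => hx (Finset.mem_filter.2 ⟨Finset.mem_univ x, h⟩)]
  have hβψ : ∑ x ∈ P, beta M ζ x * conj (ψ x) = (Nat.card W₁ : ℂ) * (Nat.card K : ℂ) *
      ((Nat.card W₁ : ℂ) - mm) := by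
    have hz : Cfsg.classInner ζ (beta M ζ) = (Nat.card W₁ : ℂ) - mm := by
      rw [Cfsg.classInner, inv_mul_eq_iff_eq_mul₀ (Nat.cast_ne_zero.2 Nat.card_pos.ne'), hMK,
        ← Finset.sum_subset (Finset.subset_univ P)
          (fun x _ hx => by rw [hbzero x hx, map_zero, mul_zero]),
        Finset.sum_congr rfl (fun x hx => by
          rw [hbP x hx, map_sub, map_neg, map_natCast, map_mul,
            show conj mm = mm by simp [hmm]])]
      calc ∑ x ∈ P, ζ x * (-(Nat.card W₁ : ℂ) - mm * conj (ζ x))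
          = -(Nat.card W₁ : ℂ) * ∑ x ∈ P, ζ x - mm * ∑ x ∈ P, ζ x * conj (ζ x) := by
            rw [Finset.mul_sum, Finset.mul_sum, ← Finset.sum_sub_distrib]
            exact Finset.sum_congr rfl fun x _ => by ring
        _ = _ := by rw [hS1, hS2, hmm]; ring
    have h1 : Cfsg.classInner (beta M ζ) ψ = (Nat.card W₁ : ℂ) - mm := by
      rw [← hadj, ← classInner_conj_symm χ (tau M (beta M ζ)), hlink, hz]
      simp [hmm]
    rw [Cfsg.classInner, inv_mul_eq_iff_eq_mul₀ (Nat.cast_ne_zero.2 Nat.card_pos.ne'), hMK,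
      ← Finset.sum_subset (Finset.subset_univ P)
        (fun x _ hx => by rw [hbzero x hx, zero_mul])] at h1
    exact h1
  have hββ : ∑ x ∈ P, beta M ζ x * conj (beta M ζ x) = (Nat.card W₁ : ℂ) * (Nat.card K : ℂ) *
      (mm * (mm - (Nat.card W₁ : ℂ))) := by
    rw [Finset.sum_congr rfl (fun x hx => by
      rw [hbP x hx, map_sub, map_neg, map_natCast, map_mul, show conj mm = mm by simp [hmm]])]
    calc ∑ x ∈ P, (-(Nat.card W₁ : ℂ) - mm * ζ x) * (-(Nat.card W₁ : ℂ) - mm * conj (ζ x))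
        = (P.card : ℂ) * (Nat.card W₁ : ℂ) ^ 2 + (Nat.card W₁ : ℂ) * mm * ∑ x ∈ P, ζ x +
          (Nat.card W₁ : ℂ) * mm * ∑ x ∈ P, conj (ζ x) +
          mm ^ 2 * ∑ x ∈ P, ζ x * conj (ζ x) := by
          rw [Finset.card_eq_sum_ones, Nat.cast_sum, Finset.sum_mul, Finset.mul_sum, Finset.mul_sum,
            Finset.mul_sum, ← Finset.sum_add_distrib, ← Finset.sum_add_distrib,
            ← Finset.sum_add_distrib]
          exact Finset.sum_congr rfl fun x _ => by push_cast; ring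
      _ = _ := by rw [hS1, hS2, hS3, hcardP, hmm]; ring
  -- real estimates
  set q : ℝ := (Nat.card W₁ : ℝ) with hq
  set m : ℝ := (Nat.card K : ℝ) - 1 with hmr
  have hqm : q < m := by
    have : (Nat.card W₁ : ℝ) + 1 < (Nat.card K : ℝ) := by exact_mod_cast hm
    rw [hq, hmr]; linarith
  have hq0 : 0 < q := by rw [hq]; exact_mod_cast Nat.card_pos
  set N : ℝ := (Nat.card ↥M : ℝ) with hN
  have hN0 : 0 < N := by rw [hN]; exact_mod_cast Nat.card_pos
  have hNc : (N : ℂ) = (Nat.card W₁ : ℂ) * (Nat.card K : ℂ) := by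
    rw [hN, Complex.ofReal_natCast, hMK]
  have hb2 : ∑ x ∈ P, ‖beta M ζ x‖ ^ 2 = N * (m * (m - q)) := by
    have e : ((∑ x ∈ P, ‖beta M ζ x‖ ^ 2 : ℝ) : ℂ) = ((N * (m * (m - q)) : ℝ) : ℂ) := by
      rw [Complex.ofReal_sum]
      simp only [Complex.ofReal_pow, ← Complex.mul_conj', hββ]
      push_cast [hq, hmr]
      rw [hNc, hmm]
    exact_mod_cast e
  have habs : N * (m - q) ≤ ∑ x ∈ P, ‖beta M ζ x‖ * ‖ψ x‖ := by
    have e : ‖∑ x ∈ P, beta M ζ x * conj (ψ x)‖ = N * (m - q) := by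
      rw [hβψ, show (Nat.card W₁ : ℂ) * (Nat.card K : ℂ) * ((Nat.card W₁ : ℂ) - mm) =
        ((N * (q - m) : ℝ) : ℂ) by push_cast [hq, hmr]; rw [hNc, hmm], Complex.norm_real,
        Real.norm_eq_abs, abs_mul, abs_of_pos hN0, abs_of_neg (by linarith : q - m < 0)]
      ring
    rw [← e]
    refine (norm_sum_le _ _).trans (Finset.sum_le_sum fun x _ => ?_)
    rw [norm_mul, Complex.norm_conj]
  set S : ℝ := ∑ x ∈ P, ‖ψ x‖ ^ 2 with hS
  have hcs : (N * (m - q)) ^ 2 ≤ N * (m * (m - q)) * S := by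
    rw [← hb2]
    exact (pow_le_pow_left₀ (mul_nonneg hN0.le (by linarith)) habs 2).trans
      (Finset.sum_mul_sq_le_sq_mul_sq P _ _)
  have hSlow : N * (1 - q / m) ≤ S := by
    have hm0 : 0 < m := by linarith
    have h1 : 0 < N * (m - q) := mul_pos hN0 (by linarith)
    have h2 : N * (m - q) ≤ m * S := by
      refine le_of_mul_le_mul_left ?_ h1
      linarith [show (N * (m - q)) ^ 2 = N * (m - q) * (N * (m - q)) by ring,
        show N * (m * (m - q)) * S = N * (m - q) * (m * S) by ring]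
    rw [one_sub_div hm0.ne', ← mul_div_assoc, div_le_iff₀ hm0]
    linarith
  -- the norm inequality
  have h25 := Cfsg.Agent.S1525.result (Cfsg.typeA1 M) M (Cfsg.supportR M) hD1 χ hchi ψ
    fun a _ => mean_eq_finsum χ _ a
  have hset : {g : G | ∃ a ∈ Cfsg.typeA1 M, ∃ u ∈ Cfsg.supportR M a, ∃ x : G,
      x * g * x⁻¹ = a * u} = Cfsg.tildeOf M (Cfsg.typeA1 M) := PF12.Avg.support_eq M _
  have hA : ∀ x : ↥M, (x : G) ∈ Cfsg.typeA1 M ↔ x ∈ P := fun x => by
    simp [hP, Cfsg.typeA1, hcore, K, Subgroup.mem_subgroupOf]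
  rw [hset, finsum_mem_eq_toFinset_sum (s := {a : ↥M | (a : G) ∈ Cfsg.typeA1 M}),
    Finset.sum_congr (s₂ := P) (by ext x; simp [hA]) (fun _ _ => rfl)] at h25
  refine le_trans ?_ h25
  rw [← hS, inv_mul_eq_div, le_div_iff₀ (by exact_mod_cast Nat.card_pos)]
  linarith [show N * (1 - q / m) = (1 - q / m) * (Nat.card ↥M : ℝ) by rw [hN]; ring]

end Cfsg.Agent.Lib.OddOrder.PF10.MSide
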