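import Cfsg.Agent.Lib.OddOrder.Interface.PF8
import Cfsg.Agent.Lib.OddOrder.Interface.PF11
import Cfsg.Agent.Lib.OddOrder.Basic
import Cfsg.Agent.Lib.OddOrder.MinSimple
import Cfsg.Agent.Lib.OddOrder.TypeP
import Cfsg.Agent.Lib.OddOrder.PF8.TypeP
import Cfsg.Agent.Lib.OddOrder.PrimeDade.TypeP
import Cfsg.Agent.Lib.Isometry.KernelCoherence
import Cfsg.Agent.Lib.Isometry.InducedSystem
import Cfsg.Agent.S1496

/-!
# Peterfalvi (10.10), generic part: subgroups of type V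

`M = K ⋊ W₁` with `K = M' = M_F` nilpotent.  The coherence system on `S(1)` for the Dade map of
`A₀(M)` and the reduction of its coherence (6.6) to the residual case: `K` a non-abelian `p`-group
with `K/K'` a small chief factor and `|W₁| ∤ p - 1`, and either `K` a TI-set or `|K| = p ^ 3` with
`|W₁| ∣ p + 1`.

Owner: helper43.
-/

set_option autoImplicit false
set_option linter.style.haveILetI false

namespace Cfsg.Agent.Lib.OddOrder.PF10.TypeV

open scoped commutatorElement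
open Cfsg.Agent.Lib.OddOrder.Interface
open Cfsg.Agent.Lib.OddOrder.Interface.PF11 (derivedIn tau)
open Cfsg.Agent.Lib.CyclicTI (IsPLike)

universe u

variable {G : Type u} [Group G] [Fintype G] {M W₁ U W₂ : Subgroup G}

/-- What is used about a subgroup of type V. -/
structure Ctx (M W₁ U W₂ : Subgroup G) : Prop where
  hG : Cfsg.IsMinSimpleOddOrder G
  max : IsCoatom M
  typeP : Cfsg.IsTypePWith M W₁ U W₂
  typeV : Cfsg.IsOfTypeV M

theorem Ctx.H_eq (c : Ctx M W₁ U W₂) : Cfsg.fittingHallOf M = ⁅M, M⁆ :=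
  (PF8.TypeP.V_facts c.typeP c.typeV).2

theorem Ctx.W₁_le (c : Ctx M W₁ U W₂) : W₁ ≤ M := c.typeP.W₁_compl.2.1

theorem Ctx.W₂_le_D (c : Ctx M W₁ U W₂) : W₂ ≤ ⁅M, M⁆ := by
  rw [← c.H_eq]
  exact c.typeP.W₂_le.trans inf_le_left

theorem Ctx.W₂_le (c : Ctx M W₁ U W₂) : W₂ ≤ M := c.W₂_le_D.trans (TypeP.derived_le M)

theorem Ctx.odd (c : Ctx M W₁ U W₂) (X : Subgroup G) : Odd (Nat.card X) :=
  c.hG.1.of_dvd_nat (Subgroup.card_subgroup_dvd_card X)

theorem derivedIn_normal (M : Subgroup G) : (derivedIn M).Normal := by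
  refine ⟨fun x hx g => ?_⟩
  have h := (Subgroup.mem_normalizer_iff.1 (PF8.TypeP.le_normalizer_derived M g.2) (x : G)).1 hx
  exact h

theorem derivedIn_eq (M : Subgroup G) : derivedIn M = ⁅(⊤ : Subgroup ↥M), ⊤⁆ := by
  apply Subgroup.map_injective M.subtype_injective
  rw [Subgroup.map_commutator, Subgroup.subgroupOf_map_subtype, ← MonoidHom.range_eq_map,
    Subgroup.range_subtype, inf_eq_left.2 (TypeP.derived_le M)]

theorem Ctx.nilpotent (c : Ctx M W₁ U W₂) : Group.IsNilpotent ↥(derivedIn M) := by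
  have h : Group.IsNilpotent ↥(⁅M, M⁆ : Subgroup G) := by
    rw [← c.H_eq]
    exact Basic.fittingHallOf_isNilpotent M
  haveI := h
  exact Group.nilpotent_of_mulEquiv (Subgroup.subgroupOfEquivOfLe (TypeP.derived_le M)).symm

/-- `W₁`, `W₂` and `K = M'` inside `M`. -/
theorem Ctx.pLike (c : Ctx M W₁ U W₂) :
    IsPLike (derivedIn M) (W₁.subgroupOf M) (W₂.subgroupOf M) :=
  PrimeDade.Instance.plike c.hG c.typeP

theorem Ctx.index_eq (c : Ctx M W₁ U W₂) : (derivedIn M).index = Nat.card W₁ := by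
  haveI := derivedIn_normal M
  haveI := Fintype.ofFinite ↥M
  rw [c.pLike.index_eq, Nat.card_congr (Subgroup.subgroupOfEquivOfLe c.W₁_le).toEquiv]

theorem Ctx.W₂_le_commutator (c : Ctx M W₁ U W₂) :
    W₂.subgroupOf M ≤ ⁅derivedIn M, derivedIn M⁆ := by
  intro x hx
  have h1 : (x : G) ∈ ⁅⁅M, M⁆, ⁅M, M⁆⁆ := (c.typeP.W₂_le (Subgroup.mem_subgroupOf.1 hx)).2
  rw [show ⁅⁅M, M⁆, ⁅M, M⁆⁆ = ⁅derivedIn M, derivedIn M⁆.map M.subtype by
    rw [Subgroup.map_commutator, Subgroup.subgroupOf_map_subtype,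
      inf_eq_left.2 (TypeP.derived_le M)]] at h1
  exact (Subgroup.mem_map_iff_mem M.subtype_injective).1 h1

theorem Ctx.derived_lt (c : Ctx M W₁ U W₂) : ⁅derivedIn M, derivedIn M⁆ < derivedIn M := by
  haveI := c.nilpotent
  have hle : W₂.subgroupOf M ≤ derivedIn M := c.pLike.le
  refine lt_of_le_of_ne (Subgroup.commutator_le_self _) fun e => ?_
  haveI : Nontrivial ↥(derivedIn M) := (Subgroup.nontrivial_iff_ne_bot _).2 fun h =>
    c.pLike.ne₂ (le_bot_iff.1 (h ▸ hle))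
  refine (Group.IsSolvable.commutator_lt_top_of_nontrivial ↥(derivedIn M)).ne ?_
  apply Subgroup.map_injective (derivedIn M).subtype_injective
  rw [commutator_def, Subgroup.map_commutator, ← MonoidHom.range_eq_map, Subgroup.range_subtype, e]

theorem Ctx.lt_top (c : Ctx M W₁ U W₂) : derivedIn M < ⊤ := by
  refine lt_top_iff_ne_top.2 fun h => c.pLike.ne₁ ?_
  have := c.pLike.inf_eq
  rwa [h, top_inf_eq] at this

/-- `M/K'` is a Frobenius group with kernel `K/K'`. -/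
theorem Ctx.frobenius_mod (c : Ctx M W₁ U W₂) :
    ∀ k ∈ derivedIn M, k ∉ ⁅derivedIn M, derivedIn M⁆ →
      ∀ x : ↥M, x * k * x⁻¹ * k⁻¹ ∈ ⁅derivedIn M, derivedIn M⁆ → x ∈ derivedIn M := by
  intro k hk hk' x hx
  haveI := Fintype.ofFinite ↥M
  haveI hKn := derivedIn_normal M
  set K := derivedIn M
  set K' := ⁅K, K⁆ with hK'
  haveI : K'.Normal := inferInstance
  by_contra hxK
  obtain ⟨a, ha, w, hw, rfl⟩ : ∃ a ∈ K, ∃ w ∈ W₁.subgroupOf M, a * w = x :=
    Subgroup.mem_sup_of_normal_left.mp (c.pLike.sup_eq ▸ Subgroup.mem_top x)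
  have hw1 : w ≠ 1 := fun e => hxK (by rw [e, mul_one]; exact ha)
  -- `w` fixes the coset of `k`
  have hwk : w * k * w⁻¹ * k⁻¹ ∈ K' := by
    have h1 : ⁅a, w * k * w⁻¹⁆ ∈ K' :=
      Subgroup.commutator_mem_commutator ha (hKn.conj_mem k hk w)
    have h2 : ⁅a, w * k * w⁻¹⁆⁻¹ * (a * w * k * (a * w)⁻¹ * k⁻¹) ∈ K' := mul_mem (inv_mem h1) hx
    rw [commutatorElement_def] at h2
    convert h2 using 1
    group
  have hd : k⁻¹ * w * k * w⁻¹ ∈ K' := by
    have h := Subgroup.Normal.conj_mem (inferInstance : K'.Normal) _ hwk k⁻¹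
    convert h using 1
    group
  obtain ⟨y, hy, d, hd', hcomm, he⟩ := Cfsg.Agent.S1496.result K' w
    (by rw [Subgroup.normalizer_eq_top]; trivial)
    (Nat.Coprime.coprime_dvd_right (Subgroup.card_dvd_of_le (Subgroup.commutator_le_self K))
      ((c.pLike.coprime).coprime_dvd_left (Subgroup.orderOf_dvd_natCard _ hw)))
    (k⁻¹ * w * k * w⁻¹) hd
  have hd1 : d = 1 := by
    have hword : orderOf (d * w) = orderOf w := by
      rw [← he]
      have e : y * (k⁻¹ * w * k * w⁻¹ * w) * y⁻¹ = (y * k⁻¹) * w * (y * k⁻¹)⁻¹ := by group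
      rw [e]
      exact (MulAut.conj (y * k⁻¹)).orderOf_eq w
    have hpow : d ^ orderOf w = 1 := by
      have h := pow_orderOf_eq_one (d * w)
      rwa [hword, (show Commute d w from hcomm).mul_pow, pow_orderOf_eq_one, mul_one] at h
    rw [← orderOf_eq_one_iff]
    refine Nat.eq_one_of_dvd_coprimes ((c.pLike.coprime).coprime_dvd_left
      (Subgroup.orderOf_dvd_natCard _ hw)) (orderOf_dvd_of_pow_eq_one hpow) ?_
    exact Subgroup.orderOf_dvd_natCard _ (Subgroup.commutator_le_self K hd')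
  rw [hd1, one_mul] at he
  have hc : y * k⁻¹ ∈ K ⊓ Subgroup.centralizer ({w} : Set ↥M) := by
    refine ⟨K.mul_mem (Subgroup.commutator_le_self K hy) (K.inv_mem hk),
      Subgroup.mem_centralizer_singleton_iff.2 ?_⟩
    calc y * k⁻¹ * w = y * (k⁻¹ * w * k * w⁻¹ * w) * y⁻¹ * (y * k⁻¹) := by group
      _ = w * (y * k⁻¹) := by rw [he]
  rw [c.pLike.cent w hw hw1] at hc
  refine hk' ?_
  have h := mul_mem (inv_mem (c.W₂_le_commutator hc)) hy
  rwa [show (y * k⁻¹)⁻¹ * y = k by group] at h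

/-- The coherence system on `S(1)` for the Dade map of `A₀(M)`. -/
theorem exists_system [Fintype ↥M] (c : Ctx M W₁ U W₂) (hB : PF8.BG16 G) :
    ∃ R, Cfsg.IsCoherenceSystem (Cfsg.inducedIrrAbove (derivedIn M) ⊥) (tau M) R :=
  PrimeDade.Instance.system_above c.hG hB c.max c.typeP
    ((PF8.TypeP.step_8_5 (G := G)).typeV M c.max W₁ U W₂ c.typeP c.typeV).2.2.2.2.2

/-- The residual case of (10.10). -/
structure Residual (M W₁ : Subgroup G) (p : ℕ) : Prop where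
  prime : p.Prime
  pGroup : IsPGroup p ↥(derivedIn M)
  nonabelian : ¬ ⁅derivedIn M, derivedIn M⁆ ≤ ⊥
  chief : ¬ ∃ N : Subgroup ↥M, N.Normal ∧ ⁅derivedIn M, derivedIn M⁆ < N ∧ N < derivedIn M
  small : ⁅derivedIn M, derivedIn M⁆.relIndex (derivedIn M) ≤ 4 * Nat.card W₁ ^ 2 + 1
  not_dvd : ¬ Nat.card W₁ ∣ p - 1
  cases : Cfsg.IsTISubset ((⁅M, M⁆ : Subgroup G) : Set G) ∨
    (Nat.card ↥(derivedIn M) = p ^ 3 ∧ Nat.card W₁ ∣ p + 1)

/-- (6.6) applied to a subgroup of type V. -/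
theorem coherent_or_residual [Fintype ↥M] (c : Ctx M W₁ U W₂)
    {R : (↥M → ℂ) → Finset (G → ℂ)}
    (hS : Cfsg.IsCoherenceSystem (Cfsg.inducedIrrAbove (derivedIn M) ⊥) (tau M) R) :
    Cfsg.IsCoherent (Cfsg.inducedIrrAbove (derivedIn M) ⊥) {1}ᶜ (tau M) ∨
      ∃ p, Residual M W₁ p := by
  haveI := derivedIn_normal M
  haveI hnil := c.nilpotent
  haveI hbot : ((⊥ : Subgroup ↥M).subgroupOf (derivedIn M)).Normal := by
    rw [Subgroup.bot_subgroupOf]; infer_instance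
  refine or_iff_not_imp_left.2 fun hnot => ?_
  have key : ¬ ((∃ N : Subgroup ↥M, N.Normal ∧ ⁅derivedIn M, derivedIn M⁆ < N ∧ N < derivedIn M) ∨
      4 * (derivedIn M).index ^ 2 + 1 < ⁅derivedIn M, derivedIn M⁆.relIndex (derivedIn M) ∨
      (¬ ∃ p m : ℕ, p.Prime ∧ (⊥ : Subgroup ↥M).relIndex (derivedIn M) = p ^ m) ∨
      ⁅derivedIn M, derivedIn M⁆ ≤ ⊥ ∨
      ∃ p m : ℕ, p.Prime ∧ (⊥ : Subgroup ↥M).relIndex (derivedIn M) = p ^ m ∧
        (derivedIn M).index ∣ p - 1) := fun hgood =>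
    hnot (Isometry.KernelCoherence.coherent_main (by infer_instance) hS (c.odd M) ⊥ bot_le
      (by infer_instance) ⁅derivedIn M, derivedIn M⁆ (sup_bot_eq _).symm c.derived_lt c.lt_top
      c.frobenius_mod hgood)
  simp only [not_or, not_not, not_lt, Subgroup.relIndex_bot_left, c.index_eq] at key
  obtain ⟨h1, h2, ⟨p, m, hp, hm⟩, h4, h5⟩ := key
  haveI : Fact p.Prime := ⟨hp⟩
  have hndvd : ¬ Nat.card W₁ ∣ p - 1 := fun h => h5 ⟨p, m, hp, hm, h⟩
  have hpg : IsPGroup p ↥(derivedIn M) := IsPGroup.of_card hm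
  refine ⟨p, hp, hpg, h4, h1, h2, hndvd, ?_⟩
  have hcardH : Nat.card ↥(Cfsg.fittingHallOf M) = p ^ m := by
    rw [c.H_eq, ← hm]
    exact (Nat.card_congr (Subgroup.subgroupOfEquivOfLe (TypeP.derived_le M)).toEquiv).symm
  obtain ⟨W₁', U', W₂', hP', -, hcases⟩ := c.typeV
  obtain ⟨y, -, e1, -, -⟩ := PF8.TypeP.data_conj c.typeP hP'
  have hW₁ : Nat.card W₁' = Nat.card W₁ := by
    rw [e1]
    exact (Nat.card_congr (W₁.equivMapOfInjective _ (MulAut.conj y).injective).toEquiv).symm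
  have hprime : ∀ r : ℕ, r.Prime → r ∣ Nat.card ↥(Cfsg.fittingHallOf M) → r = p := fun r hr hrd =>
    (Nat.prime_dvd_prime_iff_eq hr hp).1 (hr.dvd_of_dvd_pow (hcardH ▸ hrd))
  rcases hcases with hTI | ⟨r, hr, hrd, hdvd, -⟩ | ⟨r, hr, hrd, hcard, hdvd, -⟩
  · exact Or.inl (c.H_eq ▸ hTI)
  · obtain rfl := hprime r hr hrd
    exact absurd (hW₁ ▸ hdvd) hndvd
  · obtain rfl := hprime r hr hrd
    refine Or.inr ⟨?_, hW₁ ▸ hdvd⟩
    have htop : Cfsg.pCore r ↥(Cfsg.fittingHallOf M) = ⊤ :=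
      top_le_iff.1 (le_sSup ⟨inferInstance, IsPGroup.of_equiv (IsPGroup.of_card hcardH)
        Subgroup.topEquiv.symm⟩)
    rw [htop, Subgroup.card_top] at hcard
    rw [hm, ← hcard, hcardH]

end Cfsg.Agent.Lib.OddOrder.PF10.TypeV
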