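import Cfsg.Agent.Lib.OddOrder.PF10.TypeVGeneric
import Cfsg.Agent.Lib.OddOrder.PF10.Sibley.Subgroups
import Cfsg.Agent.Lib.OddOrder.PF8.Dade
import Cfsg.Agent.Lib.Isometry.Dade
import Cfsg.Agent.S1500
import Cfsg.Agent.S1523

/-!
# Peterfalvi (10.10): coherence in the residual case with a TI kernel

`M` of type V, `K = M'` a non-abelian `p`-group which is a TI subset of `G`, `W₂ < K'`.  Then
`S(1)` is coherent: `K` is a Sylow subgroup, `R(x) = 1` on `A₀(M)`, so the Dade map is reciprocal to
restriction, and the congruence for characters constant on a central subgroup makes the glueing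
coefficients vanish.

Owner: helper43.
-/

set_option autoImplicit false
set_option linter.style.haveILetI false

namespace Cfsg.Agent.Lib.OddOrder.PF10.TypeV

open scoped Classical commutatorElement ComplexConjugate
open Cfsg.Agent.Lib
open Cfsg.Agent.Lib.OddOrder.Interface
open Cfsg.Agent.Lib.OddOrder.Interface.PF11 (derivedIn tau)
open Cfsg.Agent.Lib.Isometry (InducedSystem.above InducedSystem.theta)
open Cfsg.Agent.Lib.OddOrder.PF10.Sibley

universe u

variable {G : Type u} [Group G] [Fintype G] {M W₁ U W₂ : Subgroup G}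

theorem centralizer_le_of_TI (c : Ctx M W₁ U W₂)
    (hTI : Cfsg.IsTISubset ((⁅M, M⁆ : Subgroup G) : Set G)) {x : G}
    (hx : x ∈ TypeOne.typeA0 M) : Subgroup.centralizer ({x} : Set G) ≤ M := by
  have hDne : (⁅M, M⁆ : Subgroup G) ≠ ⊥ := fun e =>
    c.typeP.selfNormalizing.2.1 (le_bot_iff.1 (e ▸ c.W₂_le_D))
  have hN := MinSimple.normalizer_eq_of_coatom c.hG c.max (TypeP.derived_le M) hDne
    (PF8.TypeP.le_normalizer_derived M)
  rw [PF8.TypeP.typeA0_eq c.typeP] at hx
  rcases hx with hx | ⟨m, hm, w, ⟨hw, hw1, hw2⟩, rfl⟩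
  · rw [((PF8.TypeP.step_8_5 (G := G)).typeA_le M c.max W₁ U W₂ c.typeP).2.2.2] at hx
    obtain ⟨hxD, hx1, -⟩ := hx
    intro g hg
    by_contra hgM
    refine hx1 (hTI g (by rw [hN]; exact hgM) x hxD ?_)
    rw [Subgroup.mem_centralizer_singleton_iff.1 hg, mul_inv_cancel_right]
    exact hxD
  · intro g hg
    have hset : Subgroup.normalizer ({w} : Set G) = W₁ ⊔ W₂ :=
      c.typeP.selfNormalizing.2.2.2.2.2 {w}
        (by rintro y rfl; exact ⟨hw, fun h => h.elim hw1 hw2⟩) ⟨w, rfl⟩
    have hgw : m⁻¹ * g * m ∈ Subgroup.normalizer ({w} : Set G) := by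
      have e := Subgroup.mem_centralizer_singleton_iff.1 hg
      have e1 : (m⁻¹ * g * m) * w = w * (m⁻¹ * g * m) := by
        calc (m⁻¹ * g * m) * w = m⁻¹ * (g * (m * w * m⁻¹)) * m := by group
          _ = m⁻¹ * ((m * w * m⁻¹) * g) * m := by rw [e]
          _ = w * (m⁻¹ * g * m) := by group
      refine Subgroup.mem_set_normalizer_iff.2 fun y => ?_
      simp only [Set.mem_singleton_iff]
      constructor
      · rintro rfl
        rw [e1, mul_inv_cancel_right]
      · intro hy
        have := congrArg (fun t => (m⁻¹ * g * m)⁻¹ * t * (m⁻¹ * g * m)) (hy.trans (by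
          rw [e1, mul_inv_cancel_right] : w = (m⁻¹ * g * m) * w * (m⁻¹ * g * m)⁻¹))
        simpa [mul_assoc] using this
    rw [hset] at hgw
    have := M.mul_mem (M.mul_mem hm (sup_le c.W₁_le c.W₂_le hgw)) (M.inv_mem hm)
    simpa [mul_assoc] using this

theorem supportR_eq_bot (c : Ctx M W₁ U W₂)
    (hTI : Cfsg.IsTISubset ((⁅M, M⁆ : Subgroup G) : Set G)) {x : G}
    (hx : x ∈ TypeOne.typeA0 M) : Cfsg.supportR M x = ⊥ := by
  rw [Cfsg.supportR, dif_neg fun h => h.1 (centralizer_le_of_TI c hTI hx)]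

/-- The Dade map is reciprocal to restriction. -/
theorem tau_recip [Fintype ↥M] (c : Ctx M W₁ U W₂) (hB : PF8.BG16 G)
    (hTI : Cfsg.IsTISubset ((⁅M, M⁆ : Subgroup G) : Set G)) {χ : G → ℂ}
    (hχ : Cfsg.IsClassFunction G χ) {α : ↥M → ℂ}
    (hα : α ∈ Cfsg.zspanOn (Cfsg.inducedIrrAbove (derivedIn M) ⊥) {1}ᶜ) :
    Cfsg.classInner χ (tau M α) = Cfsg.classInner (fun x : ↥M => χ x) α := by
  haveI := derivedIn_normal M
  have hD := (PF8.Dade.step_8_15 c.hG hB M c.max _ (Or.inr (Or.inr rfl))).2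
  have hcore := ((PF8.TypeP.step_8_5 (G := G)).typeV M c.max W₁ U W₂ c.typeP c.typeV).2.2.2.2.2
  obtain ⟨hαs, hα1⟩ := Isometry.Inner.mem_zspanOn_one.1 hα
  have hcl : Cfsg.IsClassFunction ↥M α := by
    refine Submodule.span_induction ?_ Characters.Complete.classFun_zero
      (fun a b _ _ ha hb => Characters.Complete.classFun_add ha hb)
      (fun n a _ ha => by
        rw [Isometry.FrobeniusTI.zsmul_eq]; exact Characters.Complete.classFun_smul _ ha) hαs
    rintro _ ⟨θ, -, -, -, rfl⟩
    exact Induced.Basic.isClassFunction_indFun _ θ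
  have hsupp : ∀ x : ↥M, (x : G) ∉ TypeOne.typeA0 M → α x = 0 := by
    intro x hx
    by_cases hx1 : x = 1
    · rw [hx1]; exact hα1
    refine Submodule.span_induction ?_ rfl
      (fun a b _ _ ha hb => by rw [Pi.add_apply, ha, hb, add_zero])
      (fun n a _ ha => by rw [Pi.smul_apply, ha, smul_zero]) hαs
    rintro _ ⟨θ, -, -, -, rfl⟩
    exact Induced.Basic.indFun_eq_zero_of_not_mem_normal _ θ fun hxK => hx
      (PrimeDade.Instance.derived_subset_typeA0 c.typeP hcore (Subgroup.mem_subgroupOf.1 hxK)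
        fun e => hx1 (Subtype.ext e))
  have h := (Cfsg.Agent.S1500.result _ M _ hD α hcl hsupp).2 χ (fun x : ↥M => χ x) hχ fun a ha => by
    rw [supportR_eq_bot c hTI ha, Subgroup.card_bot, Nat.cast_one, inv_one, one_mul,
      Subgroup.coe_bot, finsum_mem_singleton, mul_one]
  rw [← Induced.Basic.classInner_conj_symm (tau M α) χ, h, Induced.Basic.classInner_conj_symm]

set_option maxHeartbeats 800000 in
/-- Coherence in the residual TI case with `W₂ < K'`. -/
theorem coherent_TI [Fintype ↥M] (c : Ctx M W₁ U W₂) (hB : PF8.BG16 G) {p : ℕ}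
    (hR : Residual M W₁ p) (hTI : Cfsg.IsTISubset ((⁅M, M⁆ : Subgroup G) : Set G))
    (hne : ⁅derivedIn M, derivedIn M⁆ ≠ W₂.subgroupOf M) :
    Cfsg.IsCoherent (Cfsg.inducedIrrAbove (derivedIn M) ⊥) {1}ᶜ (tau M) := by
  haveI : Fact p.Prime := ⟨hR.prime⟩
  haveI hKn := derivedIn_normal M
  haveI hnil := c.nilpotent
  obtain ⟨R, hS⟩ := exists_system c hB
  have hpl := c.pLike
  have hK' : ⁅derivedIn M, derivedIn M⁆ ≠ ⊥ := fun e => hR.nonabelian (le_of_eq e)
  have hle : ⁅derivedIn M, derivedIn M⁆ ≤ derivedIn M := Subgroup.commutator_le_self _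
  have hW := c.W₂_le_commutator
  -- the linear layer
  obtain ⟨-, T₀, hT₀, hag₀⟩ := Isometry.KernelCoherence.coherent_base (by infer_instance) hS
    ⁅derivedIn M, derivedIn M⁆ c.derived_lt le_rfl
  rw [← Isometry.InducedSystem.coe_above] at hT₀ hag₀
  obtain ⟨θ₀, hθ₀, hθ₀1⟩ := Isometry.InducedSystem.exists_linear (derivedIn M) inferInstance
    ⁅derivedIn M, derivedIn M⁆ c.derived_lt
  set ζ := Cfsg.indFun (derivedIn M) θ₀ with hζdef
  have hlinear : ∀ θ ∈ Isometry.InducedSystem.theta (derivedIn M) ⁅derivedIn M, derivedIn M⁆,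
      θ 1 = 1 := by
    intro θ hθ
    obtain ⟨hi, -, htriv⟩ := (Isometry.InducedSystem.mem_theta _).1 hθ
    have hker : ∀ g ∈ commutator ↥(derivedIn M), θ g = θ 1 := fun g hg => by
      refine htriv g ?_
      rw [show ⁅derivedIn M, derivedIn M⁆ = (commutator ↥(derivedIn M)).map (derivedIn M).subtype from
        (Subgroup.map_subtype_commutator _).symm]
      exact ⟨g, hg, rfl⟩
    obtain ⟨φ, -, hφ, hirr⟩ := Characters.Kernel.exists_descend (commutator ↥(derivedIn M))
      (Characters.Basic.IsCharacter_of_isIrrCharacter hi) hker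
    rw [← hφ, Function.comp_apply, map_one]
    refine BC78.Central.irr_of_comm_degree (fun a b => ?_) (hirr hi)
    induction a using QuotientGroup.induction_on with
    | _ a =>
      induction b using QuotientGroup.induction_on with
      | _ b =>
        refine QuotientGroup.eq.mpr ?_
        have : (a * b)⁻¹ * (b * a) = ⁅b⁻¹, a⁻¹⁆ := by rw [commutatorElement_def]; group
        rw [this]
        exact Subgroup.commutator_mem_commutator (Subgroup.mem_top _) (Subgroup.mem_top _)
  have b : Base (derivedIn M) (tau M) R T₀ ζ :=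
    { sys := hS
      iso := hT₀
      agree := hag₀
      zeta := Finset.mem_image_of_mem _ hθ₀
      norm := fun η hη => by
        obtain ⟨θ, hθ, rfl⟩ := Finset.mem_image.1 hη
        obtain ⟨hi, hne1, htriv⟩ := (Isometry.InducedSystem.mem_theta _).1 hθ
        have h1 := hlinear θ hθ
        have hirr := Residual.Kernel.isIrr_indFun hpl hle hW hi h1
          (fun k hk => (htriv k hk).trans h1) hne1
        rw [Isometry.Inner.classInner_irr_eq hirr hirr, if_pos rfl]
      degree := fun η hη => by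
        obtain ⟨θ, hθ, rfl⟩ := Finset.mem_image.1 hη
        rw [Induced.Basic.indFun_one, hlinear θ hθ, mul_one] }
  -- the kernel is a Sylow subgroup of `G`
  set H : Subgroup G := ⁅M, M⁆ with hH
  have hmapK : (derivedIn M).map M.subtype = H := by
    rw [Subgroup.subgroupOf_map_subtype, inf_eq_left.2 (TypeP.derived_le M)]
  have hcardH : Nat.card H = Nat.card ↥(derivedIn M) :=
    (Nat.card_congr (Subgroup.subgroupOfEquivOfLe (TypeP.derived_le M)).toEquiv).symm
  have hHp : IsPGroup p H :=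
    IsPGroup.of_equiv hR.pGroup (Subgroup.subgroupOfEquivOfLe (TypeP.derived_le M))
  have hHall : (Nat.card H).Coprime H.index := by
    have := (hB.hall M c.max).2.1
    rwa [c.H_eq] at this
  have hH0 : H ≠ ⊥ := fun e => c.typeP.selfNormalizing.2.1 (le_bot_iff.1 (e ▸ c.W₂_le_D))
  have hpH : ¬ p ∣ H.index := by
    intro hd
    obtain ⟨n, hn⟩ := IsPGroup.iff_card.1 hHp
    have : p ∣ Nat.card H := by
      rcases Nat.eq_zero_or_pos n with rfl | h0
      · exact absurd (Subgroup.card_eq_one.1 (by rw [hn, pow_zero])) hH0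
      · rw [hn]; exact dvd_pow_self p h0.ne'
    exact hR.prime.ne_one (Nat.eq_one_of_dvd_coprimes hHall this hd)
  set P : Sylow p G := hHp.toSylow hpH with hP
  have hPH : (P : Subgroup G) = H := IsPGroup.toSylow_coe _ _
  have hN : Subgroup.normalizer (H : Set G) = M :=
    MinSimple.normalizer_eq_of_coatom c.hG c.max (TypeP.derived_le M) hH0
      (PF8.TypeP.le_normalizer_derived M)
  -- the central subgroup
  obtain ⟨Z, hZn, hZK', hZ0, hZc, hcases⟩ := exists_Z hpl hR.pGroup hK'
  haveI := hZn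
  have hZK : Z ≤ derivedIn M := hZK'.trans hle
  -- centralizers of the non-identity elements of `Z` agree
  have hcent : ∀ z ∈ Z, ∀ z' ∈ Z, z ≠ 1 → z' ≠ 1 → ∀ x : ↥M, x * z = z * x → x * z' = z' * x := by
    intro z hz z' hz' hz1 _ x hx
    rcases hcases with hfree | ⟨-, -, hc⟩
    · obtain ⟨k, hk, v, hv, rfl⟩ : ∃ k ∈ derivedIn M, ∃ v ∈ W₁.subgroupOf M, k * v = x :=
        Subgroup.mem_sup_of_normal_left.mp (hpl.sup_eq ▸ Subgroup.mem_top x)
      have hv1 : v = 1 := by
        by_contra hv1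
        have hvz : v * z = z * v := by
          have e : k * (v * z) = k * (z * v) := by
            rw [← mul_assoc, hx, ← mul_assoc, ← mul_assoc, hZc z hz k hk]
          exact mul_left_cancel e
        have hmem : z ∈ Z ⊓ W₂.subgroupOf M := ⟨hz, by
          rw [← hpl.cent v hv hv1]
          exact ⟨hZK hz, Subgroup.mem_centralizer_singleton_iff.2 hvz.symm⟩⟩
        rw [hfree, Subgroup.mem_bot] at hmem
        exact hz1 hmem
      rw [hv1, mul_one]
      exact (hZc z' hz' k hk).symm
    · exact (hc z' hz' x).symm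
  -- the datum
  set f : ↥M → ℂ := fun x => T₀ ζ x with hf
  have hTgen := b.T_gen b.zeta
  have hTcl := Isometry.Inner.gen_classFun hTgen
  have D : Datum (derivedIn M) Z (tau M) T₀ ζ f :=
    { classFun := Isometry.FrobeniusTI.restr_isClassFunction hTcl
      int := by
        rw [hf, ← Induced.Basic.frobenius_reciprocity' M ζ hTcl]
        exact Isometry.Inner.classInner_gen_int hTgen (Isometry.Inner.gen_of_isCharacter
          (Induced.Character.isCharacter_indFun M (hS.isCharacter ζ b.zeta_S)))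
      recip := fun α hα => tau_recip c hB hTI hTcl hα
      congr := by
        intro hconst z hz hz1
        obtain ⟨ε, hε, ψ, hψ, hψe⟩ : ∃ ε : ℂ, (ε = 1 ∨ ε = -1) ∧ ∃ ψ : G → ℂ,
            Cfsg.IsIrrCharacter G ψ ∧ T₀ ζ = ε • ψ := by
          rcases Isometry.Inner.signed_of_norm_one hTgen
              (by rw [b.T_inner b.zeta b.zeta, if_pos rfl]) with h | h
          · exact ⟨1, Or.inl rfl, _, h, (one_smul _ _).symm⟩
          · exact ⟨-1, Or.inr rfl, _, h, by simp⟩
        have hε0 : ε ≠ 0 := by rcases hε with h | h <;> simp [h]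
        have hcard : ∀ z ∈ Z.map M.subtype, ∀ z' ∈ Z.map M.subtype, z ≠ 1 → z' ≠ 1 →
            Nat.card ↥(Subgroup.normalizer ((P : Subgroup G) : Set G) ⊓
                Subgroup.centralizer ({z} : Set G)) =
              Nat.card ↥(Subgroup.normalizer ((P : Subgroup G) : Set G) ⊓
                Subgroup.centralizer ({z'} : Set G)) := by
          rintro _ ⟨a, ha, rfl⟩ _ ⟨a', ha', rfl⟩ h1 h1'
          have hle' : ∀ a a' : ↥M, a ∈ Z → a' ∈ Z → (a : G) ≠ 1 → (a' : G) ≠ 1 →
              M ⊓ Subgroup.centralizer ({(a : G)} : Set G) ≤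
                M ⊓ Subgroup.centralizer ({(a' : G)} : Set G) := by
            rintro a a' ha ha' h1 h1' x ⟨hxM, hx⟩
            exact ⟨hxM, Subgroup.mem_centralizer_singleton_iff.2 (congrArg Subtype.val
              (hcent a ha a' ha' (fun e => h1 (by rw [e]; rfl)) (fun e => h1' (by rw [e]; rfl))
                ⟨x, hxM⟩ (Subtype.ext (Subgroup.mem_centralizer_singleton_iff.1 hx))))⟩
          rw [hPH, hN]
          show Nat.card ↥(M ⊓ Subgroup.centralizer ({(a : G)} : Set G)) =
            Nat.card ↥(M ⊓ Subgroup.centralizer ({(a' : G)} : Set G))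
          rw [le_antisymm (hle' a a' ha ha' h1 h1') (hle' a' a ha' ha h1' h1)]
        obtain ⟨n, d, hn, hd, k, hk⟩ := Cfsg.Agent.S1523.result p P (by rw [hPH]; exact hTI)
          (by rw [hPH, hN]; exact c.odd M) (Z.map M.subtype)
          (fun e => hZ0 ((Subgroup.map_eq_bot_iff_of_injective _ M.subtype_injective).1 e))
          (by rw [hPH, ← hmapK]; exact Subgroup.map_mono hZK)
          (by
            rw [hPH, hN]
            rintro x hx _ ⟨a, ha, rfl⟩
            exact ⟨⟨x, hx⟩ * a * ⟨x, hx⟩⁻¹, hZn.conj_mem a ha _, rfl⟩)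
          (by
            rintro _ ⟨a, ha, rfl⟩ y hy
            rw [hPH, ← hmapK] at hy
            obtain ⟨y, hy, rfl⟩ := hy
            exact congrArg Subtype.val (hZc a ha y hy))
          hcard ψ hψ
          (by
            rintro _ ⟨a, ha, rfl⟩ _ ⟨a', ha', rfl⟩ h1 h1'
            have h := hconst a ha a' ha' (fun e => h1 (by rw [e]; rfl)) (fun e => h1' (by rw [e]; rfl))
            simp only [hf, hψe, Pi.smul_apply, smul_eq_mul] at h
            exact mul_left_cancel₀ hε0 h)
          (z : G) ⟨z, hz, rfl⟩ (fun e => hz1 (Subtype.ext e))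
        rw [hPH, hcardH] at hk
        have hk' : (d : ℂ) - (n : ℂ) = (Nat.card ↥(derivedIn M) : ℂ) * (k : ℂ) := by
          exact_mod_cast hk
        have e1 : f 1 - f z = ε * ((d : ℂ) - (n : ℂ)) := by
          simp only [hf, hψe, Pi.smul_apply, smul_eq_mul, OneMemClass.coe_one, hn, hd]
          ring
        rcases hε with h | h
        · exact ⟨k, by rw [e1, h, hk']; ring⟩
        · exact ⟨-k, by rw [e1, h, hk']; push_cast; ring⟩ }
  -- conclusion
  obtain ⟨e, he⟩ := IsPGroup.iff_card.1 hR.pGroup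
  have hp3 : 3 ≤ p := by
    have hodd : Odd p := (c.odd H).of_dvd_nat (by
      rw [hcardH, he]
      refine dvd_pow_self p fun e0 => hH0 (Subgroup.card_eq_one.1 ?_)
      rw [hcardH, he, e0, pow_zero])
    obtain ⟨j, hj⟩ := hodd
    have := hR.prime.two_le
    omega
  have hcop : Nat.Coprime p (derivedIn M).index := by
    rw [hpl.index_eq]
    refine (hpl.coprime.symm).coprime_dvd_left ?_
    rw [he]
    refine dvd_pow_self p fun e0 => hH0 (Subgroup.card_eq_one.1 ?_)
    rw [hcardH, he, e0, pow_zero]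
  have hcoef : (∀ χ ∈ offS (derivedIn M) Z, coef (derivedIn M) (tau M) T₀ ζ χ = 0) ∨
      ((lin (derivedIn M)).card = 2 ∧ ∀ χ ∈ offS (derivedIn M) Z,
        coef (derivedIn M) (tau M) T₀ ζ χ = dg (derivedIn M) χ) := by
    rcases hcases with hfree | ⟨hcard, -, -⟩
    · obtain ⟨r, -, hr⟩ := (Nat.dvd_prime_pow hR.prime).1
        (he ▸ Subgroup.index_dvd_card (Z.subgroupOf (derivedIn M)))
      exact b.coef_free D hZK' (fun θ hθ => isIrr_free hpl hZK hfree hZc hθ) hR.prime hp3 he hr
        hcop hZ0 hZc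
    · exact b.coef_central D hZK' hR.prime hcard ⟨e, he⟩ hZc
  have hcoh := b.coherent_of_coef offS_subset (fun χ hχ => offS_not_above hZK' hS hχ) hcoef
  refine coherent_all b hZK' hcoh ?_ ?_ ?_
  · have hZodd : Odd (Nat.card Z) := (c.odd M).of_dvd_nat (Subgroup.card_subgroup_dvd_card Z)
    obtain ⟨j, hj⟩ := hZodd
    have : Nat.card Z ≠ 1 := fun e1 => hZ0 (Subgroup.card_eq_one.1 e1)
    omega
  · rcases hcases with hfree | ⟨-, hZW, -⟩
    · exact Or.inl (card_free hpl (c.odd M) Z hZK hfree hZ0)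
    · exact Or.inr (relIndex_central hpl (c.odd M) c.frobenius_mod c.derived_lt c.lt_top hW hne hZW)
  · have h0 : ⁅derivedIn M, derivedIn M⁆.relIndex (derivedIn M) ≠ 0 :=
      Subgroup.index_ne_zero_of_finite
    have h1 : ⁅derivedIn M, derivedIn M⁆.relIndex (derivedIn M) ≠ 1 := fun e1 =>
      c.derived_lt.not_ge (Subgroup.relIndex_eq_one.1 e1)
    omega

end Cfsg.Agent.Lib.OddOrder.PF10.TypeV
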