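import Cfsg.Agent.Lib.OddOrder.PF10.Ctx

/-!
# Peterfalvi (10.5)-(10.6): `τ (1_{M'}^M - ζ) = ∑ η_φ - χ`
-/

set_option autoImplicit false
set_option linter.style.haveILetI false
set_option linter.unusedSectionVars false

namespace Cfsg.Agent.Lib.OddOrder.PF10.Values

open scoped ComplexConjugate Classical
open Cfsg.Agent.Lib
open Cfsg.Agent.Lib.CyclicTI (IsP IsQ)
open Cfsg.Agent.Lib.OddOrder.PrimeDade (pull)
open Cfsg.Agent.Lib.OddOrder.PF11.Chars (rows cols mem_rows mem_cols card_rows card_cols)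
open Cfsg.Agent.Lib.OddOrder.PF11.Tau (coef coef_spec coef_eq eta_gen bessel_grid grid)
open Cfsg.Agent.Lib.OddOrder.Interface.PF11 (derivedIn tau)
open Cfsg.Agent.Lib.Induced.Basic (classInner_add_left classInner_add_right classInner_sub_left
  classInner_sub_right classInner_smul_left classInner_smul_right classInner_conj_symm)

universe u

variable {G : Type u} [Group G] [Fintype G] {M : Subgroup G} [Fintype ↥M] {H : Subgroup ↥M}
  {W₁ W₂ : Subgroup G} {η : (↥(W₁ ⊔ W₂) →* ℂˣ) → (G → ℂ)} {ζ : ↥M → ℂ} {χ : G → ℂ}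

theorem hom_one_mul (a : ↥(W₁ ⊔ W₂) →* ℂˣ) : 1 * a = a := MonoidHom.ext fun w => by simp

theorem hom_mul_one (a : ↥(W₁ ⊔ W₂) →* ℂˣ) : a * 1 = a := MonoidHom.ext fun w => by simp

/-- Bessel over the family and `χ`. -/
theorem bessel_key (hη : Cfsg.IsCyclicTIFamily W₁ W₂ η)
    (k : Key M W₁ W₂ ζ χ) {v : G → ℂ} (hv : Cfsg.IsGeneralizedCharacter G v) {e N : ℤ}
    (he : Cfsg.classInner v χ = (e : ℂ)) (hN : Cfsg.classInner v v = (N : ℂ)) :
    (∑ φ ∈ rows W₁ W₂, ∑ ψ ∈ cols W₁ W₂, coef v (η (φ * ψ)) ^ 2) + e ^ 2 ≤ N ∧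
      ((∑ φ ∈ rows W₁ W₂, ∑ ψ ∈ cols W₁ W₂, coef v (η (φ * ψ)) ^ 2) + e ^ 2 = N →
        v = (∑ φ ∈ rows W₁ W₂, ∑ ψ ∈ cols W₁ W₂, (coef v (η (φ * ψ)) : ℂ) • η (φ * ψ)) +
          (e : ℂ) • χ) := by
  have h := bessel_grid hη (Finset.univ : Finset (ULift.{u} Unit)) (fun _ => χ) (fun _ => e) hv
    (fun i _ j _ hij => absurd (Subsingleton.elim i j) hij)
    (fun _ _ => Isometry.Inner.classInner_self_signed k.signed) (fun _ _ ω => k.orth η hη ω)
    (fun _ _ => he) hN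
  simpa using h

/-- `τ α = δ (η ψ - 1) - n χ`. -/
theorem tau_alpha (c : Ctx M H W₁ W₂) (hη : Cfsg.IsCyclicTIFamily W₁ W₂ η)
    (k : Key M W₁ W₂ ζ χ) {ψ : ↥(W₁ ⊔ W₂) →* ℂˣ} {δ : ℤ} {n d : ℕ} {μ ξ : ↥M → ℂ}
    (hd : Local.Data (derivedIn M) (W₁.subgroupOf M) (W₂.subgroupOf M) (pull ψ) δ n d ζ μ ξ) :
    tau M (alphaF δ n μ ζ) = (δ : ℂ) • (η ψ - η 1) - (n : ℂ) • χ := by
  have hW := c.hyp.selfNormalizing
  obtain ⟨hg, hs, hn, hgz⟩ := c.alpha_facts hd
  have hcl := Isometry.Inner.gen_classFun hg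
  have hψ : IsQ ψ := (PrimeDade.isQ_pull c.hyp.le₁ c.hyp.le₂).1 hd.isQ
  have hψ1 : ψ ≠ 1 := fun e => hd.psi_ne (by rw [e]; rfl)
  have hδ2 : δ * δ = 1 := by rcases hd.sign with e | e <;> simp [e]
  set v := tau M (alphaF δ n μ ζ) with hv
  have hvg : Cfsg.IsGeneralizedCharacter G v := c.tau_gen hg hs
  set T : G → ℂ := (δ : ℂ) • (η ψ - η 1) with hT
  have hTg : Cfsg.IsGeneralizedCharacter G T :=
    Isometry.Inner.gen_intCast_smul (Isometry.Inner.gen_sub (eta_gen hη _) (eta_gen hη _)) δ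
  have hDg := Isometry.Inner.gen_sub hvg hTg
  have hDV : ∀ w : ↥(W₁ ⊔ W₂), (w : G) ∉ W₁ → (w : G) ∉ W₂ → (v - T) w = 0 := by
    intro w h1 h2
    rw [Pi.sub_apply, hv, c.tau_V hcl w h1 h2 (c.W_le w.2), hT]
    simp only [alphaF, Pi.sub_apply, Pi.smul_apply, smul_eq_mul, hη.eq_on _ w h1 h2,
      c.data_apply hd w h2 (c.W_le w.2), hd.zeta_off _ (c.V_not_K w h2 _), MonoidHom.one_apply,
      Units.val_one]
    ring
  set P : (↥(W₁ ⊔ W₂) →* ℂˣ) → (↥(W₁ ⊔ W₂) →* ℂˣ) → ℤ := fun a b =>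
    if a = 1 then (if b = ψ then 1 else 0) - (if b = 1 then 1 else 0) else 0 with hP
  have hTcoef : ∀ a ∈ rows W₁ W₂, ∀ b ∈ cols W₁ W₂,
      Cfsg.classInner T (η (a * b)) = ((δ * P a b : ℤ) : ℂ) := by
    intro a ha b hb
    have e1 : ∀ ω, IsQ ω → (ω = a * b ↔ a = 1 ∧ b = ω) := fun ω hω => by
      refine ⟨fun e => ?_, fun e => by rw [e.1, e.2, hom_one_mul]⟩
      obtain ⟨r1, r2⟩ := CyclicTI.pair_inj (mem_rows.1 ha) CyclicTI.isP_one (mem_cols.1 hb) hω
        (by rw [hom_one_mul, ← e])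
      exact ⟨r1, r2⟩
    rw [hT, classInner_smul_left, classInner_sub_left, hη.orthonormal, hη.orthonormal]
    simp only [e1 ψ hψ, e1 1 CyclicTI.isQ_one, hP]
    by_cases ha1 : a = 1 <;> simp [ha1]
  have hcoef : ∀ a ∈ rows W₁ W₂, ∀ b ∈ cols W₁ W₂, coef v (η (a * b)) =
      (coef (v - T) (η a) - coef (v - T) (η 1)) + coef (v - T) (η b) + δ * P a b := by
    intro a ha b hb
    rw [← grid (η := η) hη hW hDg hDV (mem_rows.1 ha) (mem_cols.1 hb)]
    refine coef_eq ?_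
    rw [Int.cast_add, ← coef_spec hDg (eta_gen hη _), classInner_sub_left, hTcoef a ha b hb]
    ring
  have hvχ : Cfsg.classInner v χ = ((-(n : ℤ) : ℤ) : ℂ) := by
    rw [← classInner_conj_symm χ v, hv, alphaF, k.alpha _ _ _ _ _ _ hd,
      ← classInner_conj_symm _ ζ]
    change conj (conj (Cfsg.classInner (alphaF δ n μ ζ) ζ)) = _
    rw [Complex.conj_conj, hgz]
    push_cast
    ring
  have hvv : Cfsg.classInner v v = ((2 + (n : ℤ) ^ 2 : ℤ) : ℂ) := by
    rw [hv, c.tau_inner hcl hs hcl, hn]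
  obtain ⟨hle, heq⟩ := bessel_key hη k hvg hvχ hvv
  rw [Finset.sum_congr rfl fun a ha => Finset.sum_congr rfl fun b hb => by rw [hcoef a ha b hb]] at hle
  rw [← Finset.sum_coe_sort (rows W₁ W₂), Finset.sum_congr rfl (fun a _ => by
    rw [← Finset.sum_coe_sort (cols W₁ W₂)])] at hle
  have hz := PF11.Grid.small_shift
    (fun a : ↥(rows W₁ W₂) => δ * (coef (v - T) (η a.1) - coef (v - T) (η 1)))
    (fun b : ↥(cols W₁ W₂) => δ * coef (v - T) (η b.1))
    (by rw [Fintype.card_coe, card_rows hW]; exact c.three_le_q)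
    (by rw [Fintype.card_coe, card_cols hW]; exact c.three_le_p)
    (i₀ := ⟨1, mem_rows.2 CyclicTI.isP_one⟩) (j := ⟨ψ, mem_cols.2 hψ⟩)
    (k := ⟨1, mem_cols.2 CyclicTI.isQ_one⟩)
    (fun e => hψ1 (congrArg Subtype.val e))
    (by
      rw [neg_sq] at hle
      refine le_trans (le_of_eq ?_) (le_of_add_le_add_right hle)
      refine Finset.sum_congr rfl fun a _ => Finset.sum_congr rfl fun b _ => ?_
      have : (if a = (⟨1, mem_rows.2 CyclicTI.isP_one⟩ : ↥(rows W₁ W₂)) then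
          (if b = (⟨ψ, mem_cols.2 hψ⟩ : ↥(cols W₁ W₂)) then (1 : ℤ) else 0) -
            (if b = (⟨1, mem_cols.2 CyclicTI.isQ_one⟩ : ↥(cols W₁ W₂)) then 1 else 0) else 0) =
          P a.1 b.1 := by simp [hP, Subtype.ext_iff]
      rw [this]
      linear_combination ((coef (v - T) (η a.1) - coef (v - T) (η 1) + coef (v - T) (η b.1)) ^ 2
        - P a.1 b.1 ^ 2) * hδ2)
  have hcoef' : ∀ a ∈ rows W₁ W₂, ∀ b ∈ cols W₁ W₂, coef v (η (a * b)) = δ * P a b := by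
    intro a ha b hb
    have h0 := hz ⟨a, ha⟩ ⟨b, hb⟩
    rw [hcoef a ha b hb]
    linear_combination δ * h0 - (coef (v - T) (η a) - coef (v - T) (η 1) + coef (v - T) (η b)) * hδ2
  have hrow : ∀ f : ℤ → (↥(W₁ ⊔ W₂) →* ℂˣ) → G → ℂ, (∀ ω, f 0 ω = 0) →
      ∑ a ∈ rows W₁ W₂, ∑ b ∈ cols W₁ W₂, f (P a b) (a * b) = f 1 ψ + f (-1) 1 := by
    intro f hf
    rw [Finset.sum_eq_single 1 (fun a _ ha => Finset.sum_eq_zero fun b _ => by simp [hP, ha, hf])
      (fun hh => absurd (mem_rows.2 CyclicTI.isP_one) hh)]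
    rw [← Finset.sum_subset (s₁ := ({ψ, 1} : Finset (↥(W₁ ⊔ W₂) →* ℂˣ))) (by
      intro b hb
      simp only [Finset.mem_insert, Finset.mem_singleton] at hb
      rcases hb with rfl | rfl <;> simp [mem_cols, hψ, CyclicTI.isQ_one])
      (fun b _ hb => by
        simp only [Finset.mem_insert, Finset.mem_singleton, not_or] at hb
        simp [hP, hb.1, hb.2, hf]), Finset.sum_pair hψ1]
    simp [hP, hψ1, Ne.symm hψ1, hom_one_mul]
  have hPsum : ∑ a ∈ rows W₁ W₂, ∑ b ∈ cols W₁ W₂, (δ * P a b) ^ 2 = 2 := by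
    rw [Finset.sum_eq_single 1 (fun a _ ha => by simp [hP, ha])
      (fun hh => absurd (mem_rows.2 CyclicTI.isP_one) hh)]
    rw [← Finset.sum_subset (s₁ := ({ψ, 1} : Finset (↥(W₁ ⊔ W₂) →* ℂˣ))) (by
      intro b hb
      simp only [Finset.mem_insert, Finset.mem_singleton] at hb
      rcases hb with rfl | rfl <;> simp [mem_cols, hψ, CyclicTI.isQ_one])
      (fun b _ hb => by
        simp only [Finset.mem_insert, Finset.mem_singleton, not_or] at hb
        simp [hP, hb.1, hb.2]), Finset.sum_pair hψ1]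
    simp [hP, hψ1, Ne.symm hψ1, sq, hδ2]
  have := heq (by
    rw [Finset.sum_congr rfl fun a ha => Finset.sum_congr rfl fun b hb => by rw [hcoef' a ha b hb],
      hPsum]
    ring)
  rw [this, Finset.sum_congr rfl fun a ha => Finset.sum_congr rfl fun b hb => by
    rw [hcoef' a ha b hb], hrow (fun z ω => ((δ * z : ℤ) : ℂ) • η ω) (fun ω => by simp), hT]
  simp only [mul_one, mul_neg, Int.cast_neg, Int.cast_natCast, neg_smul, smul_sub]
  abel

/-- `τ γ = ∑ η φ - χ`, the sum over the characters trivial on `W₂`. -/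
theorem tau_gamma (c : Ctx M H W₁ W₂) (hη : Cfsg.IsCyclicTIFamily W₁ W₂ η)
    (k : Key M W₁ W₂ ζ χ) :
    tau M (gammaF ζ) = ∑ φ ∈ rows W₁ W₂, η φ - χ := by
  have hW := c.hyp.selfNormalizing
  haveI := c.hyp.K_normal
  obtain ⟨ψM, δ, n, d, μ, ξ, hd⟩ := Local.exists_data c.hyp.plike c.hyp.odd c.le_two k.zeta_irr
    k.zeta_mem (by rw [k.zeta_one, c.card₁])
  obtain ⟨ψ, rfl⟩ := (PrimeDade.pull_bijective c.hyp.le₁ c.hyp.le₂).2 ψM
  obtain ⟨hg, hs, hoff, hn, hgz, hg1⟩ := c.gamma_facts hd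
  obtain ⟨hag, has, -, haz⟩ := c.alpha_facts hd
  have hcl := Isometry.Inner.gen_classFun hg
  have hψ : IsQ ψ := (PrimeDade.isQ_pull c.hyp.le₁ c.hyp.le₂).1 hd.isQ
  have hψ1 : ψ ≠ 1 := fun e => hd.psi_ne (by rw [e]; rfl)
  set v := tau M (gammaF ζ) with hv
  have hvg : Cfsg.IsGeneralizedCharacter G v := c.tau_gen hg hs
  have hvV : ∀ w : ↥(W₁ ⊔ W₂), (w : G) ∉ W₁ → (w : G) ∉ W₂ → v w = 0 := fun w h1 h2 => by
    rw [hv, c.tau_V hcl w h1 h2 (c.W_le w.2)]
    exact hoff _ (c.V_not_K w h2 _)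
  have hvχ : Cfsg.classInner v χ = ((-1 : ℤ) : ℂ) := by
    rw [← classInner_conj_symm χ v, hv, gammaF, k.base, ← classInner_conj_symm _ ζ]
    change conj (conj (Cfsg.classInner (gammaF ζ) ζ)) = _
    rw [Complex.conj_conj, hgz]
    simp
  have hvv : Cfsg.classInner v v = ((Nat.card W₁ + 1 : ℤ) : ℂ) := by
    rw [hv, c.tau_inner hcl hs hcl, hn]
  have hc1 : coef v (η 1) = 1 := coef_eq (by
    rw [hη.map_one, hv, c.tau_one hcl hs, hg1, Int.cast_one])
  -- `<τ γ, η ψ> = 0`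
  have hcψ : coef v (η ψ) = 0 := by
    have h1 : Cfsg.classInner v (tau M (alphaF δ n μ ζ)) =
        Cfsg.classInner (gammaF ζ) (alphaF δ n μ ζ) :=
      c.tau_inner hcl hs (Isometry.Inner.gen_classFun hag)
    rw [tau_alpha c hη k hd, classInner_sub_right, classInner_smul_right, classInner_smul_right,
      classInner_sub_right, map_intCast, map_natCast, coef_spec hvg (eta_gen hη _),
      coef_spec hvg (eta_gen hη _), hc1, hvχ] at h1
    have h2 : Cfsg.classInner (gammaF ζ) (alphaF δ n μ ζ) = (n : ℂ) - (δ : ℂ) := by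
      simp only [alphaF, classInner_sub_right, classInner_smul_right, hgz, hg1, map_intCast,
        map_natCast]
      rw [gammaF, classInner_sub_left, hd.base_mu, ← classInner_conj_symm μ ζ, hd.mu_zeta, map_zero]
      ring
    rw [h2] at h1
    have h3 : (δ : ℂ) * (coef v (η ψ) : ℂ) = 0 := by push_cast at h1; linear_combination h1
    rcases mul_eq_zero.1 h3 with e | e
    · exfalso; rcases hd.sign with e' | e' <;> simp [e'] at e
    · exact_mod_cast e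
  obtain ⟨hle, heq⟩ := bessel_key hη k hvg hvχ hvv
  rw [Finset.sum_congr rfl fun a ha => Finset.sum_congr rfl fun b hb => by
    rw [grid (η := η) hη hW hvg hvV (mem_rows.1 ha) (mem_cols.1 hb)]] at hle
  rw [← Finset.sum_coe_sort (rows W₁ W₂), Finset.sum_congr rfl (fun a _ => by
    rw [← Finset.sum_coe_sort (cols W₁ W₂)])] at hle
  have hcases := PF11.Grid.small_cases
    (fun a : ↥(rows W₁ W₂) => coef v (η a.1) - coef v (η 1))
    (fun b : ↥(cols W₁ W₂) => coef v (η b.1))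
    (by rw [Fintype.card_coe, card_cols hW]; exact c.three_le_p)
    (by
      rw [Fintype.card_coe, card_rows hW]
      linarith)
  obtain ⟨l₀, e, -, hl⟩ : ∃ l₀ : ↥(cols W₁ W₂), ∃ e : ℤ, (e = 1 ∨ e = -1) ∧
      ∀ (i : ↥(rows W₁ W₂)) (l : ↥(cols W₁ W₂)),
        coef v (η i.1) - coef v (η 1) + coef v (η l.1) = if l = l₀ then e else 0 := by
    refine hcases.resolve_left fun hconst => ?_
    have := hconst ⟨ψ, mem_cols.2 hψ⟩ ⟨1, mem_cols.2 CyclicTI.isQ_one⟩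
    simp only [hcψ, hc1] at this
    exact zero_ne_one this
  have hl1 := hl ⟨1, mem_rows.2 CyclicTI.isP_one⟩ ⟨1, mem_cols.2 CyclicTI.isQ_one⟩
  have hl0 : l₀ = ⟨1, mem_cols.2 CyclicTI.isQ_one⟩ := by
    by_contra hne
    rw [if_neg (Ne.symm hne)] at hl1
    simp [hc1] at hl1
  rw [hl0, if_pos rfl] at hl1
  simp only [sub_self, zero_add, hc1] at hl1
  have hcoef : ∀ a ∈ rows W₁ W₂, ∀ b ∈ cols W₁ W₂,
      coef v (η (a * b)) = if b = 1 then 1 else 0 := by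
    intro a ha b hb
    rw [grid (η := η) hη hW hvg hvV (mem_rows.1 ha) (mem_cols.1 hb), hl ⟨a, ha⟩ ⟨b, hb⟩, hl0,
      ← hl1]
    exact if_congr Subtype.ext_iff rfl rfl
  have hsum : ∑ a ∈ rows W₁ W₂, ∑ b ∈ cols W₁ W₂, coef v (η (a * b)) ^ 2 = Nat.card W₁ := by
    rw [Finset.sum_congr rfl fun a ha => Finset.sum_congr rfl fun b hb => by rw [hcoef a ha b hb],
      Finset.sum_congr rfl (fun a _ => Finset.sum_eq_single 1
        (fun b _ hb => by simp [hb]) (fun hh => absurd (mem_cols.2 CyclicTI.isQ_one) hh))]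
    simp [card_rows hW]
  have := heq (by rw [hsum]; ring)
  rw [this, Finset.sum_congr rfl fun a ha => Finset.sum_eq_single 1
    (fun b hb hb1 => by rw [hcoef a ha b hb, if_neg hb1, Int.cast_zero, zero_smul])
    (fun hh => absurd (mem_cols.2 CyclicTI.isQ_one) hh)]
  rw [Finset.sum_congr rfl fun a ha => by
    rw [hcoef a ha 1 (mem_cols.2 CyclicTI.isQ_one), if_pos rfl, Int.cast_one, one_smul, hom_mul_one]]
  push_cast
  rw [neg_one_smul, ← sub_eq_add_neg]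

end Cfsg.Agent.Lib.OddOrder.PF10.Values
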